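import Cfsg.Agent.H912.Sp10.A7Ne
import Cfsg.Agent.H920.Basic

/-!
# `A₇` in degree ten, invariant alternating form, `p ≠ 7` (helper912)

* `exists_sr` : the representation of a core fixing an alternating form;
* `a7_ne_seven` : `Soc P ≅ A₇`, `n = 10`, `FixA P`, `p ≠ 7`: false.
-/

set_option autoImplicit false
set_option linter.unusedSectionVars false

namespace Cfsg.Agent.H912.Sp10

open Cfsg Cfsg.Geo Module Equiv Equiv.Perm
open Matrix hiding mul_apply'
open Cfsg.Agent.H637.JW Cfsg.Agent.H908.Ten Cfsg.Agent.H637.SevenA7 Cfsg.Agent.H871.Par Cfsg.Agent.H637.A7Cov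
open Cfsg.Agent.H915.LD (Core Soc toSoc ker_comp toSoc_surjective FixA scalars_le_center)

universe u

variable {ι : Type} [Fintype ι] [DecidableEq ι] {F : Type u} [Field F] {P : Subgroup (GL ι F)}

theorem map_mem (hC : ActsAbsolutelyIrreducibly (matrixSet P)) (W : Submodule (AlgebraicClosure F) (ι → AlgebraicClosure F))
    (hW : ∀ g : P, ∀ v ∈ W, repP P g v ∈ W) (M : Matrix ι ι F) {v : ι → AlgebraicClosure F} (hv : v ∈ W) :
    (M.map (algebraMap F (AlgebraicClosure F))) *ᵥ v ∈ W := by
  have h1 : M ∈ Submodule.span F (matrixSet P) := by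
    rw [H920.span_eq_top hC]; trivial
  induction h1 using Submodule.span_induction with
  | mem x hx =>
    obtain ⟨y, hy, rfl⟩ := hx
    exact hW ⟨y, hy⟩ v hv
  | zero =>
    rw [Matrix.map_zero _ (map_zero _), Matrix.zero_mulVec]
    exact W.zero_mem
  | add x y _ _ hx hy =>
    rw [Matrix.map_add _ (fun a b => map_add _ a b), Matrix.add_mulVec]
    exact W.add_mem hx hy
  | smul c x _ hx =>
    have : (c • x).map (algebraMap F (AlgebraicClosure F)) =
        algebraMap F (AlgebraicClosure F) c • x.map (algebraMap F (AlgebraicClosure F)) := by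
      ext i j
      simp
    rw [this, Matrix.smul_mulVec]
    exact W.smul_mem _ hx

/-- irreducibility over the algebraic closure -/
theorem repP_irr (hC : ActsAbsolutelyIrreducibly (matrixSet P)) (W : Submodule (AlgebraicClosure F) (ι → AlgebraicClosure F))
    (hW : ∀ g : P, ∀ v ∈ W, repP P g v ∈ W) (w : ι → AlgebraicClosure F) (hw : w ∈ W) (hw0 : w ≠ 0) : W = ⊤ := by
  obtain ⟨j, hj⟩ : ∃ j, w j ≠ 0 := by
    by_contra hno
    push Not at hno
    exact hw0 (funext hno)
  have h1 : ∀ i, (Pi.single i 1 : ι → AlgebraicClosure F) ∈ W := by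
    intro i
    have h2 := map_mem hC W hW (Matrix.single i j 1) hw
    have h3 : ((Matrix.single i j (1 : F)).map (algebraMap F (AlgebraicClosure F))) *ᵥ w = w j • Pi.single i 1 := by
      funext k
      simp only [mulVec, dotProduct, Matrix.map_apply, Matrix.single_apply]
      by_cases hk : i = k
      · subst hk
        simp
      · simp [hk, Ne.symm hk]
    rw [h3] at h2
    have h4 := W.smul_mem (w j)⁻¹ h2
    rwa [smul_smul, inv_mul_cancel₀ hj, one_smul] at h4
  rw [eq_top_iff]
  intro v _
  rw [show v = ∑ i, v i • (Pi.single i 1 : ι → AlgebraicClosure F) by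
    funext k; simp [Finset.sum_apply, Pi.single_apply]]
  exact W.sum_mem fun i _ => W.smul_mem _ (h1 i)

/-- **The representation of a group fixing a (skew-)symmetric form.** -/
theorem exists_sr (hC : ActsAbsolutelyIrreducibly (matrixSet P)) {f : (ι → F) → (ι → F) → F} (hf : IsBilinearForm f)
    (hn : IsNondegenerateForm f) (hfix : FixesForm (matrixSet P) f)
    (hs : (∀ u v, f u v = - f v u) ∨ (∀ u v, f u v = f v u)) :
    ∃ h : SR (AlgebraicClosure F) (ι → AlgebraicClosure F) P, h.σ = repP P := by
  obtain ⟨B, h1, h3, h4⟩ := exists_form hf hn hfix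
  have hrefl : ∀ u v, B u v = 0 → B v u = 0 := by
    intro u v huv
    have h5 : B v u = B u v ∨ B v u = - B u v := by
      rcases hs with hs | hs
      · right
        have hskew : (gram f)ᵀ = - gram f := by
          ext i j
          exact hs _ _
        conv_lhs => rw [h4, Matrix.dotProduct_mulVec, ← Matrix.mulVec_transpose, dotProduct_comm]
        rw [h4, ← Matrix.transpose_map, hskew]
        have h6 : (-gram f).map (algebraMap F (AlgebraicClosure F)) =
            - (gram f).map (algebraMap F (AlgebraicClosure F)) := by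
          ext i j
          simp
        rw [h6, Matrix.neg_mulVec, dotProduct_neg]
      · left
        have hsym : (gram f)ᵀ = gram f := by
          ext i j
          exact hs _ _
        conv_lhs => rw [h4, Matrix.dotProduct_mulVec, ← Matrix.mulVec_transpose, dotProduct_comm]
        rw [h4, ← Matrix.transpose_map, hsym]
    rcases h5 with h5 | h5 <;> rw [h5, huv]
    rw [neg_zero]
  exact ⟨⟨repP P, B, h1, hrefl, h3, fun W hW w hw hw0 => repP_irr hC W hW w hw hw0⟩, rfl⟩

/-- **`A₇` in degree ten, `p ≠ 7`.** -/
theorem a7_ne_seven (hC : Core P) (hA : FixA P) (hn : Fintype.card ι = 10) (e : Soc P ≃* alternatingGroup (Fin 7))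
    (h7 : (7 : F) ≠ 0) : False := by
  obtain ⟨f, hf, hfix⟩ := hA
  obtain ⟨h, hσ⟩ := exists_sr hC.absIrred hf.bilinear hf.nondegenerate hfix (Or.inl fun u v => hf.skew u v)
  have hι : Nonempty ι := Fintype.card_pos_iff.1 (by rw [hn]; norm_num)
  have hV : finrank (AlgebraicClosure F) (ι → AlgebraicClosure F) = 10 := by
    rw [Module.finrank_fintype_fun_eq_card, hn]
  have h7' : (7 : AlgebraicClosure F) ≠ 0 := by
    have := (map_ne_zero (algebraMap F (AlgebraicClosure F))).2 h7
    rwa [map_ofNat] at this
  let π : P →* alternatingGroup (Fin 7) := e.toMonoidHom.comp (toSoc P)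
  have hπ : Function.Surjective π := e.surjective.comp (toSoc_surjective P)
  have hker : π.ker = (scalars ι F).subgroupOf P := ker_comp e
  have hinj : Function.Injective h.σ := by rw [hσ]; exact repP_injective P
  have hsc : ∀ k : P, π k = 1 → h.σ k = 1 ∨ h.σ k = -1 := by
    intro k hk
    have h1 : k ∈ (scalars ι F).subgroupOf P := by rw [← hker]; exact hk
    rw [hσ]
    exact scalar_of_fix hf.bilinear hf.nondegenerate hfix (Subgroup.mem_subgroupOf.1 h1)
  have hk : ∀ k, π k = 1 → (∀ g, k * g = g * k) ∧ k * k = 1 := by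
    intro k hk
    refine ⟨fun g => hinj ?_, hinj ?_⟩
    · rcases hsc k hk with h1 | h1 <;> rw [map_mul, map_mul, h1]
      · rw [one_mul, mul_one]
      · refine LinearMap.ext fun v => ?_
        rw [Module.End.mul_apply, Module.End.mul_apply, LinearMap.neg_apply, LinearMap.neg_apply, Module.End.one_apply,
          Module.End.one_apply, map_neg]
    · rcases hsc k hk with h1 | h1 <;> rw [map_mul, map_one, h1]
      · rw [one_mul]
      · refine LinearMap.ext fun v => ?_
        rw [Module.End.mul_apply, LinearMap.neg_apply, LinearMap.neg_apply, Module.End.one_apply, Module.End.one_apply,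
          neg_neg]
  obtain ⟨D, g, z, H, hs, -, -⟩ := exists_good π hπ hk hC.commutator_top (Q := PUnit.{1}) (S := fun _ => 1) (m := 1)
    (fun _ => rfl) (fun _ _ _ => rfl) rfl (fun _ => rfl)
  let α : D →* P := (MonoidHom.fst _ _).comp D.subtype
  have hα : Function.Surjective α := hs
  have hαi : Function.Injective α := by
    intro a b hab
    exact Subtype.ext (Prod.ext hab rfl)
  let h' := h.comap α hα
  have hi' : Function.Injective h'.σ := fun a b hab => hαi (hinj hab)
  rcases hsc (α z) H.pi_z with hz | hz
  · -- `P = A₇`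
    have hz1 : z = 1 := hi' (by rw [map_one]; exact hz)
    have hπi : Function.Injective (π.comp α) := by
      rw [injective_iff_map_eq_one]
      intro d hd
      rcases H.ker d hd with h1 | h1
      · exact h1
      · rw [h1, hz1]
    let e' : D ≃* alternatingGroup (Fin 7) := MulEquiv.ofBijective (π.comp α) ⟨hπi, H.surj⟩
    exact caseA (h'.comap e'.symm.toMonoidHom e'.symm.surjective) (fun a b hab => e'.symm.injective (hi' hab)) hV h7'
  · by_cases h2 : (2 : AlgebraicClosure F) = 0
    · -- `-1 = 1`
      have hz' : h'.σ z = 1 := by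
        change h.σ (α z) = 1
        rw [hz]
        refine LinearMap.ext fun v => ?_
        rw [LinearMap.neg_apply, Module.End.one_apply]
        have h3 : (2 : AlgebraicClosure F) • v = 0 := by rw [h2, zero_smul]
        rw [two_smul] at h3
        exact (eq_neg_of_add_eq_zero_left h3).symm
      have hz1 : z = 1 := hi' (by rw [map_one]; exact hz')
      have hπi : Function.Injective (π.comp α) := by
        rw [injective_iff_map_eq_one]
        intro d hd
        rcases H.ker d hd with h1 | h1
        · exact h1
        · rw [h1, hz1]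
      let e' : D ≃* alternatingGroup (Fin 7) := MulEquiv.ofBijective (π.comp α) ⟨hπi, H.surj⟩
      exact caseA (h'.comap e'.symm.toMonoidHom e'.symm.surjective) (fun a b hab => e'.symm.injective (hi' hab)) hV h7'
    · exact caseB H h' hz hV h7' h2

end Cfsg.Agent.H912.Sp10
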