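import Cfsg.Agent.H912.Sp10.Fam
import Cfsg.Agent.H614.AMod.Main

/-!
# `A_m`, `m ≥ 9`, in degree ten, characteristic two (helper912)
-/

set_option autoImplicit false
set_option linter.unusedSectionVars false

namespace Cfsg.Agent.H912.Sp10

open Cfsg Cfsg.Geo Matrix Cfsg.Agent.H614.AMod Cfsg.Agent.H614.AMod.Main Cfsg.Agent.H964.AltMod
open Cfsg.Agent.H915.LD (Core Soc toSoc FixA FixQ)

universe u

variable {ι : Type} [Fintype ι] [DecidableEq ι] {F : Type u} [Field F] {P : Subgroup (GL ι F)} {m : ℕ}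

theorem natM_const {f : (ι → F) → (ι → F) → F} (hfix : FixesForm (matrixSet P) f) {φ : P ≃* alternatingGroup (Fin m)}
    {w : Fin m → Fin m → ι → F} (N : NatM (rep φ) w) (hm : 5 ≤ m) {a b c : Fin m} (hab : a ≠ b) (hbc : b ≠ c)
    (hac : a ≠ c) (i j k : Fin m) (hij : i ≠ j) (hik : i ≠ k) (hjk : j ≠ k) :
    f (w i j) (w i k) = f (w a b) (w a c) := by
  obtain ⟨g, hg⟩ := exists_move (α := Fin m) (k := 3) (by rw [Fintype.card_fin]; exact hm) (emb3 a b c hab hbc hac)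
    (emb3 i j k hij hjk hik)
  have h0 : (g : Equiv.Perm (Fin m)) a = i := hg 0
  have h1 : (g : Equiv.Perm (Fin m)) b = j := hg 1
  have h2 : (g : Equiv.Perm (Fin m)) c = k := hg 2
  have a1 := N.act g a b
  have a2 := N.act g a c
  rw [h0, h1] at a1
  rw [h0, h2] at a2
  rw [← a1, ← a2, rep_apply, rep_apply]
  exact hfix _ ⟨_, (φ.symm g).2, rfl⟩ _ _

theorem alt_two [Finite F] (hC : Core P) (hA : FixA P) (hn : Fintype.card ι = 10) (h2 : (2 : F) = 0)
    (e : Soc P ≃* alternatingGroup (Fin m)) (hm : 9 ≤ m) : FixQ P := by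
  have : Fact (Nat.Prime 2) := ⟨Nat.prime_two⟩
  have : CharP F 2 := CharTwo.of_one_ne_zero_of_two_eq_zero one_ne_zero h2
  rcases alt_cases hC 2 e (by omega) (by omega) (by omega) with ⟨φ, -, w, N⟩ | h | h
  · obtain ⟨f, hf, hfix⟩ := hA
    have hm' : m = 11 ∨ m = 12 := by
      rcases dim_cases hC (by rw [Fintype.card_fin]; omega) N with ⟨-, h⟩ | ⟨-, h⟩
      · left; rw [Fintype.card_fin] at h; omega
      · right; rw [Fintype.card_fin] at h; omega
    obtain ⟨i0, j0, hne⟩ := N.ne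
    have h5 : 5 ≤ m := by omega
    refine fixQ_fam h2 hC hf hfix hn hm' (W := w) N.tri hne (fun g hg => ⟨(φ ⟨g, hg⟩ : Equiv.Perm (Fin m)), fun i j => ?_⟩)
      (natM_const hfix N h5 (a := ⟨0, by omega⟩) (b := ⟨1, by omega⟩) (c := ⟨2, by omega⟩) (by simp) (by simp)
        (by simp))
    rw [← rep_apply' φ ⟨g, hg⟩, N.act]
  · have := h.n8
    omega
  · have := h.1
    omega

end Cfsg.Agent.H912.Sp10
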