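import Cfsg.Agent.H912.Sp10.AltFix
import Cfsg.Agent.H871.Par9

/-!
# Elementary abelian groups of order eight with conjugate involutions: no symplectic representation of degree ten
(helper912)

* `four_rel` : dimensions of fixed spaces of a four-group;
* `PA.ne_ten` : `PA F n T`, `E ≤ T` elementary abelian of order at least eight with conjugate involutions: `n ≠ 10`;
* `psl34_ne_ten` : `PSL_3(4)`.
-/

set_option autoImplicit false
set_option linter.unusedSectionVars false

namespace Cfsg.Agent.H912.Sp10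

open Module Cfsg.Agent.H912.Bd Cfsg.Agent.H871.Par

section

variable {K : Type*} [Field K] {V : Type*} [AddCommGroup V] [Module K V] [FiniteDimensional K V]

/-- fixed spaces of a four-group acting on `U` -/
theorem four_rel (h2 : (2 : K) ≠ 0) {U : Submodule K V} {r s : Module.End K V} (hr : ∀ v ∈ U, r v ∈ U)
    (hs : ∀ v ∈ U, s v ∈ U) (hrr : ∀ v, r (r v) = v) (hss : ∀ v, s (s v) = v) (hrs : ∀ v, r (s v) = s (r v)) :
    finrank K (Eg U r 1) + finrank K (Eg U s 1) + finrank K (Eg U (r * s) 1) =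
      finrank K U + 2 * finrank K (Eg (Eg U r 1) s 1) := by
  have e0 := finrank_Eg h2 (S := U) (r := r) hr (fun v _ => hrr v)
  have e1 := finrank_Eg h2 (S := Eg U r 1) (r := s) (fun v hv => ⟨hs v hv.1, by
    rw [hrs, hv.2, one_smul, one_smul]⟩) (fun v _ => hss v)
  have e2 := finrank_Eg h2 (S := Eg U r (-1)) (r := s) (fun v hv => ⟨hs v hv.1, by
    rw [hrs, hv.2, map_smul]⟩) (fun v _ => hss v)
  have e3 := finrank_Eg h2 (S := Eg U s 1) (r := r) (fun v hv => ⟨hr v hv.1, by
    rw [← hrs, hv.2, one_smul, one_smul]⟩) (fun v _ => hrr v)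
  have e4 := finrank_Eg h2 (S := Eg U (r * s) 1) (r := r) (fun v hv => ⟨hr v hv.1, by
    have h1 := hv.2
    rw [Module.End.mul_apply, one_smul] at h1
    rw [Module.End.mul_apply, ← hrs, h1, one_smul]⟩) (fun v _ => hrr v)
  have f1 : Eg (Eg U s 1) r 1 = Eg (Eg U r 1) s 1 := by
    ext v
    simp only [mem_Eg, and_assoc]
    exact and_congr_right fun _ => and_comm
  have f2 : Eg (Eg U s 1) r (-1) = Eg (Eg U r (-1)) s 1 := by
    ext v
    simp only [mem_Eg, and_assoc]
    exact and_congr_right fun _ => and_comm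
  have f3 : Eg (Eg U (r * s) 1) r 1 = Eg (Eg U r 1) s 1 := by
    ext v
    simp only [mem_Eg, one_smul, Module.End.mul_apply, and_assoc]
    refine and_congr_right fun _ => ?_
    constructor
    · rintro ⟨h3, h4⟩
      refine ⟨h4, ?_⟩
      rw [hrs, h4] at h3
      exact h3
    · rintro ⟨h3, h4⟩
      exact ⟨by rw [h4, h3], h3⟩
  have f4 : Eg (Eg U (r * s) 1) r (-1) = Eg (Eg U r (-1)) s (-1) := by
    ext v
    simp only [mem_Eg, one_smul, neg_smul, Module.End.mul_apply, and_assoc]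
    refine and_congr_right fun _ => ?_
    constructor
    · rintro ⟨h3, h4⟩
      refine ⟨h4, ?_⟩
      rw [hrs, h4, map_neg] at h3
      rw [← neg_neg (s v), h3]
    · rintro ⟨h3, h4⟩
      exact ⟨by rw [h4, map_neg, h3, neg_neg], h3⟩
  rw [f1, f2] at e3
  rw [f3, f4] at e4
  omega

end

universe u v

variable {F : Type u} [Field F] {n : ℕ} {T : Type v} [Group T]

section sign

variable {K : Type*} [Field K] {V : Type*} [AddCommGroup V] [Module K V] {L : Type*} [Group L]

/-- adding the scalar `-1` -/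
def sg (ρ : L →* Module.End K V) : L × ℤˣ →* Module.End K V where
  toFun m := ((m.2 : ℤ) : K) • ρ m.1
  map_one' := by simp
  map_mul' a b := by
    simp only [Prod.fst_mul, Prod.snd_mul, Units.val_mul, Int.cast_mul, map_mul]
    rw [smul_mul_smul_comm]

theorem sg_apply (ρ : L →* Module.End K V) (m : L × ℤˣ) (v : V) : sg ρ m v = ((m.2 : ℤ) : K) • ρ m.1 v := rfl

theorem sg_cases (ρ : L →* Module.End K V) (m : L × ℤˣ) : sg ρ m = ρ m.1 ∨ sg ρ m = -ρ m.1 := by
  rcases Int.units_eq_one_or m.2 with h | h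
  · left
    change ((m.2 : ℤ) : K) • ρ m.1 = _
    rw [h]; simp
  · right
    change ((m.2 : ℤ) : K) • ρ m.1 = _
    rw [h]; simp

end sign

/-- **Elementary abelian groups of order eight.** -/
theorem PA.ne_ten (h : PA F n T) (h2 : (2 : F) ≠ 0) (E : Subgroup T) (hE : ∀ a ∈ E, a * a = 1)
    (hE8 : ∃ a ∈ E, ∃ b ∈ E, ∃ c ∈ E, a ≠ 1 ∧ b ≠ 1 ∧ b ≠ a ∧ c ≠ 1 ∧ c ≠ a ∧ c ≠ b ∧ c ≠ a * b)
    (htr : ∀ a ∈ E, ∀ b ∈ E, a ≠ 1 → b ≠ 1 → ∃ g, g * a * g⁻¹ = b) : n ≠ 10 := by
  obtain ⟨L, _, π, V, _, _, _, ρ, B, hπ, hρ, hker, hnd, hinv, halt, rfl⟩ := h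
  intro hV
  have h2' := two_ne h2
  have hcen := ker_central hρ hker
  have helem : ∀ x : L, π x ∈ E → x * x = 1 := fun x hx => sq_eq_one hρ hker hπ hE hE8 htr hx
  let M := L × ℤˣ
  let σ : M →* Module.End (AlgebraicClosure F) V := sg ρ
  let q : M →* T := π.comp (MonoidHom.fst L ℤˣ)
  have hq : Function.Surjective q := fun t => by
    obtain ⟨x, rfl⟩ := hπ t
    exact ⟨(x, 1), rfl⟩
  have hσinv : ∀ g u v, B (σ g u) (σ g v) = B u v := by
    intro g u v
    rcases sg_cases ρ g with h1 | h1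
    · change B (sg ρ g u) (sg ρ g v) = _
      rw [h1, hinv]
    · change B (sg ρ g u) (sg ρ g v) = _
      rw [h1, LinearMap.neg_apply, LinearMap.neg_apply, map_neg, map_neg, LinearMap.neg_apply, neg_neg, hinv]
  have hsq : ∀ m : M, q m ∈ E → m * m = 1 := by
    intro m hm
    have h1 := helem m.1 hm
    exact Prod.ext h1 (Int.units_mul_self m.2)
  have hkerM : ∀ m : M, q m = 1 → σ m = 1 ∨ σ m = -1 := by
    intro m hm
    rcases hker m.1 hm with h1 | h1 <;> rcases sg_cases ρ m with h3 | h3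
    · left; exact h3.trans h1
    · right; exact h3.trans (by rw [h1])
    · right; exact h3.trans h1
    · left; exact h3.trans (by rw [h1, neg_neg])
  let nn : M := (1, -1)
  have hnn : ∀ m : M, σ (nn * m) = - σ m := by
    intro m
    refine LinearMap.ext fun v => ?_
    change (((-1 * m.2 : ℤˣ) : ℤ) : (AlgebraicClosure F)) • ρ (1 * m.1) v = -(((m.2 : ℤ) : (AlgebraicClosure F)) • ρ m.1 v)
    rw [one_mul]
    simp
  have hqn : ∀ m : M, q (nn * m) = q m := by
    intro m
    change π (1 * m.1) = π m.1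
    rw [one_mul]
  have hcomm : ∀ a b : M, q a ∈ E → q b ∈ E → a * b = b * a := by
    intro a b ha hb
    have h1 := hsq _ (by rw [map_mul]; exact E.mul_mem ha hb)
    have h3 : a⁻¹ = a := inv_eq_of_mul_eq_one_left (hsq a ha)
    have h4 : b⁻¹ = b := inv_eq_of_mul_eq_one_left (hsq b hb)
    have h5 : (a * b)⁻¹ = a * b := inv_eq_of_mul_eq_one_left h1
    rw [_root_.mul_inv_rev, h3, h4] at h5
    exact h5.symm
  have hσσ : ∀ m : M, q m ∈ E → ∀ v, σ m (σ m v) = v := by
    intro m hm v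
    rw [← Module.End.mul_apply, ← map_mul, hsq m hm, map_one, Module.End.one_apply]
  have hσc : ∀ a b : M, q a ∈ E → q b ∈ E → ∀ v, σ a (σ b v) = σ b (σ a v) := by
    intro a b ha hb v
    rw [← Module.End.mul_apply, ← map_mul, hcomm a b ha hb, map_mul, Module.End.mul_apply]
  have h2N : ((2 : ℕ) : (AlgebraicClosure F)) ≠ 0 := by exact_mod_cast h2'
  have hev : ∀ S : Set M, (∀ x ∈ S, q x ∈ E) → Even (finrank (AlgebraicClosure F) (FixS σ S)) := by
    intro S hS
    refine even_fix σ B hnd hσinv halt h2N (fun x hx y hy => hcomm x y (hS x hx) (hS y hy)) fun x hx => ?_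
    rw [pow_two, hsq x (hS x hx)]
  let d : M → ℕ := fun m => finrank (AlgebraicClosure F) (Eg (⊤ : Submodule (AlgebraicClosure F) V) (σ m) 1)
  have hdn : ∀ m : M, q m ∈ E → d m + d (nn * m) = 10 := by
    intro m hm
    have e0 := finrank_Eg h2' (S := (⊤ : Submodule (AlgebraicClosure F) V)) (r := σ m) (fun v _ => trivial) (fun v _ => hσσ m hm v)
    rw [finrank_top, hV] at e0
    have e1 : Eg (⊤ : Submodule (AlgebraicClosure F) V) (σ m) (-1) = Eg (⊤ : Submodule (AlgebraicClosure F) V) (σ (nn * m)) 1 := by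
      rw [hnn]
      ext v
      simp only [mem_Eg, Submodule.mem_top, true_and, one_smul, neg_smul, LinearMap.neg_apply]
      exact neg_eq_iff_eq_neg.symm
    rw [e1] at e0
    exact e0.symm
  have hd1 : ∀ m : M, q m ∈ E → Even (d m) := by
    intro m hm
    have h3 := hev {m} (by rintro x rfl; exact hm)
    have h4 : FixS σ ({m} : Set M) = Eg (⊤ : Submodule (AlgebraicClosure F) V) (σ m) 1 := by
      ext v
      simp only [mem_FixS, mem_Eg, Submodule.mem_top, true_and, one_smul, Set.mem_singleton_iff, forall_eq]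
    rwa [h4] at h3
  obtain ⟨a, ha, b, hb, c, hc, ha1, hb1, hba, hc1, hca, hcb, hcab⟩ := hE8
  have hinvE : ∀ x ∈ E, x⁻¹ = x := fun x hx => inv_eq_of_mul_eq_one_left (hE x hx)
  have hd10 : ∀ m : M, q m ∈ E → q m ≠ 1 → d m ≠ 10 := by
    intro m hm hm1 h10
    have h3 : Eg (⊤ : Submodule (AlgebraicClosure F) V) (σ m) 1 = ⊤ := Submodule.eq_top_of_finrank_eq (by rw [hV]; exact h10)
    have h4 : σ m = 1 := by
      refine LinearMap.ext fun v => ?_
      have h5 : v ∈ Eg (⊤ : Submodule (AlgebraicClosure F) V) (σ m) 1 := by rw [h3]; trivial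
      rw [h5.2, one_smul, Module.End.one_apply]
    -- `m.1` acts as a scalar, hence is central
    have h6 : ∀ x : L, m.1 * x = x * m.1 := by
      intro x
      apply hρ
      have h7 : sg ρ m = 1 := h4
      rcases sg_cases ρ m with h8 | h8
      · rw [h7] at h8
        rw [map_mul, map_mul, ← h8, one_mul, mul_one]
      · rw [h7] at h8
        have h9 : ρ m.1 = -1 := by rw [h8, neg_neg]
        rw [map_mul, map_mul, h9, neg_mul, mul_neg, one_mul, mul_one]
    have h7 : ∀ t : T, q m * t = t * q m := by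
      intro t
      obtain ⟨x, rfl⟩ := hπ t
      change π m.1 * π x = π x * π m.1
      rw [← map_mul, h6, map_mul]
    have h8 : ∀ x ∈ E, x ≠ 1 → x = q m := by
      intro x hx hx1
      obtain ⟨g, hg⟩ := htr _ hm x hx hm1 hx1
      rw [← h7 g, mul_inv_cancel_right] at hg
      exact hg.symm
    exact hba ((h8 b hb hb1).trans (h8 a ha ha1).symm)
  -- conjugacy up to sign
  have hconj : ∀ m m' : M, q m ∈ E → q m' ∈ E → q m ≠ 1 → q m' ≠ 1 → d m = d m' ∨ d m = 10 - d m' := by
    intro m m' hm hm' h1 h1'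
    obtain ⟨g, hg⟩ := htr _ hm _ hm' h1 h1'
    obtain ⟨x, rfl⟩ := hq g
    have h3 : q (x * m * x⁻¹ * m'⁻¹) = 1 := by
      rw [map_mul, map_mul, map_mul, map_inv, map_inv, hg, mul_inv_cancel]
    have h4 : d m = d (x * m * x⁻¹) := finrank_Eg_conj σ (isConj_iff.2 ⟨x, rfl⟩) 1
    have h5 : σ (x * m * x⁻¹) = σ (x * m * x⁻¹ * m'⁻¹) * σ m' := by
      rw [← map_mul, inv_mul_cancel_right]
    rcases hkerM _ h3 with h6 | h6
    · left
      rw [h6, one_mul] at h5
      rw [h4]
      change finrank (AlgebraicClosure F) (Eg _ _ _) = finrank (AlgebraicClosure F) (Eg _ _ _)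
      rw [h5]
    · right
      rw [h6, neg_one_mul, ← hnn] at h5
      have h7 := hdn m' hm'
      have h8 : d (x * m * x⁻¹) = d (nn * m') := by
        change finrank (AlgebraicClosure F) (Eg _ _ _) = finrank (AlgebraicClosure F) (Eg _ _ _)
        rw [h5]
      rw [h4, h8]
      omega
  -- positive lifts
  have hpos : ∀ t ∈ E, t ≠ 1 → ∃ m : M, q m = t ∧ 6 ≤ d m := by
    intro t ht ht1
    obtain ⟨m, rfl⟩ := hq t
    have h3 := hdn m ht
    obtain ⟨i, hi⟩ := hd1 m ht
    by_cases h4 : 6 ≤ d m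
    · exact ⟨m, rfl, h4⟩
    · exact ⟨nn * m, hqn m, by omega⟩
  -- the relation
  have hrel : ∀ m m' : M, q m ∈ E → q m' ∈ E →
      d m + d m' + d (m * m') = 10 + 2 * finrank (AlgebraicClosure F) (FixS σ ({m, m'} : Set M)) ∧
        finrank (AlgebraicClosure F) (FixS σ ({m, m'} : Set M)) ≤ d (m * m') := by
    intro m m' hm hm'
    have h3 := four_rel h2' (U := (⊤ : Submodule (AlgebraicClosure F) V)) (r := σ m) (s := σ m') (fun v _ => trivial) (fun v _ => trivial)
      (hσσ m hm) (hσσ m' hm') (hσc m m' hm hm')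
    have h4 : FixS σ ({m, m'} : Set M) = Eg (Eg (⊤ : Submodule (AlgebraicClosure F) V) (σ m) 1) (σ m') 1 := by
      ext v
      simp only [mem_FixS, mem_Eg, Submodule.mem_top, true_and, one_smul, Set.mem_insert_iff, Set.mem_singleton_iff,
        forall_eq_or_imp, forall_eq]
    rw [finrank_top, hV, ← map_mul, ← h4] at h3
    refine ⟨h3, ?_⟩
    apply Submodule.finrank_mono
    intro v hv
    refine ⟨trivial, ?_⟩
    rw [map_mul, Module.End.mul_apply, hv m' (by simp), hv m (by simp), one_smul]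
  have hprod : ∀ m m' : M, q m ∈ E → q m' ∈ E → q m ≠ 1 → q m' ≠ 1 → q m' ≠ q m → 6 ≤ d m → 6 ≤ d m' →
      d m = 6 ∧ d m' = 6 ∧ d (m * m') = 6 ∧ finrank (AlgebraicClosure F) (FixS σ ({m, m'} : Set M)) = 4 := by
    intro m m' hm hm' h1 h1' hne h6 h6'
    have h3 := hconj m m' hm hm' h1 h1'
    have hmm : q (m * m') ∈ E := by rw [map_mul]; exact E.mul_mem hm hm'
    have hmm1 : q (m * m') ≠ 1 := by
      rw [map_mul]
      intro h
      apply hne
      rw [eq_inv_of_mul_eq_one_right h, hinvE _ hm]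
    have h4 := hconj (m * m') m hmm hm hmm1 h1
    obtain ⟨h5, h7⟩ := hrel m m' hm hm'
    obtain ⟨i, hi⟩ := hd1 m hm
    obtain ⟨i', hi'⟩ := hd1 m' hm'
    obtain ⟨j, hj⟩ := hev {m, m'} (by rintro x (rfl | rfl); exacts [hm, hm'])
    have h8 := hd10 m hm h1
    have h9 := hd10 m' hm' h1'
    have h10 := hdn m hm
    have h11 := hdn m' hm'
    omega
  obtain ⟨ma, rfl, ma6⟩ := hpos a ha ha1
  obtain ⟨mb, rfl, mb6⟩ := hpos b hb hb1
  obtain ⟨mc, rfl, mc6⟩ := hpos c hc hc1
  obtain ⟨p1, p2, p3, p4⟩ := hprod ma mb ha hb ha1 hb1 hba ma6 mb6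
  obtain ⟨q1, q2, q3, q4⟩ := hprod ma mc ha hc ha1 hc1 hca ma6 mc6
  obtain ⟨r1, r2, r3, r4⟩ := hprod mb mc hb hc hb1 hc1 hcb mb6 mc6
  have hbc : q (mb * mc) ∈ E := by rw [map_mul]; exact E.mul_mem hb hc
  have hbc1 : q (mb * mc) ≠ 1 := by
    rw [map_mul]
    intro h
    apply hcb
    rw [eq_inv_of_mul_eq_one_right h, hinvE _ hb]
  have hbca : q (mb * mc) ≠ q ma := by
    rw [map_mul]
    intro h
    apply hcab
    have h3 : q mc = (q mb)⁻¹ * q ma := by rw [← h, inv_mul_cancel_left]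
    rw [h3, hinvE _ hb, ← map_mul, hcomm mb ma hb ha, map_mul]
  obtain ⟨s1, s2, s3, s4⟩ := hprod ma (mb * mc) ha hbc ha1 hbc1 hbca ma6 (by rw [r3])
  -- the relation on the fixed space of `ma`
  have hfr := four_rel h2' (U := Eg (⊤ : Submodule (AlgebraicClosure F) V) (σ ma) 1) (r := σ mb) (s := σ mc)
    (fun v hv => ⟨trivial, by rw [hσc ma mb ha hb, hv.2, one_smul, one_smul]⟩)
    (fun v hv => ⟨trivial, by rw [hσc ma mc ha hc, hv.2, one_smul, one_smul]⟩)
    (hσσ mb hb) (hσσ mc hc) (hσc mb mc hb hc)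
  have hF : ∀ m : M, FixS σ ({ma, m} : Set M) = Eg (Eg (⊤ : Submodule (AlgebraicClosure F) V) (σ ma) 1) (σ m) 1 := by
    intro m
    ext v
    simp only [mem_FixS, mem_Eg, Submodule.mem_top, true_and, one_smul, Set.mem_insert_iff, Set.mem_singleton_iff,
      forall_eq_or_imp, forall_eq]
  have hF3 : FixS σ ({ma, mb, mc} : Set M) = Eg (Eg (Eg (⊤ : Submodule (AlgebraicClosure F) V) (σ ma) 1) (σ mb) 1) (σ mc) 1 := by
    ext v
    simp only [mem_FixS, mem_Eg, Submodule.mem_top, true_and, one_smul, Set.mem_insert_iff, Set.mem_singleton_iff,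
      forall_eq_or_imp, forall_eq, and_assoc]
  rw [← map_mul, ← hF3, ← hF, ← hF, ← hF, p4, q4, s4] at hfr
  have hda : finrank (AlgebraicClosure F) (Eg (⊤ : Submodule (AlgebraicClosure F) V) (σ ma) 1) = 6 := p1
  rw [hda] at hfr
  obtain ⟨j, hj⟩ := hev {ma, mb, mc} (by rintro x (rfl | rfl | rfl); exacts [ha, hb, hc])
  omega

/-- **`2^4:A5`**: `f : K × K → T`, `|K| = 4`, additive to multiplicative, `SL_2(K)` acting. -/
theorem PA.sixteen_ne_ten (h : PA F n T) (h2 : (2 : F) ≠ 0) {K : Type v} [Field K] [CharP K 2] {w : K}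
    (hw : w ^ 2 + w + 1 = 0) (f : K × K → T) (hf : ∀ x y, f (x + y) = f x * f y) (hinj : Function.Injective f)
    (hact : ∀ a b c d : K, a * d - b * c = 1 → ∃ g : T, ∀ x : K × K,
      g * f x * g⁻¹ = f (a * x.1 + b * x.2, c * x.1 + d * x.2)) : n ≠ 10 := by
  have h20 : (2 : K) = 0 := by exact_mod_cast CharP.cast_eq_zero K 2
  have hxx : ∀ x : K × K, x + x = 0 := by
    intro x
    ext
    · change x.1 + x.1 = 0; linear_combination x.1 * h20
    · change x.2 + x.2 = 0; linear_combination x.2 * h20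
  have f0 : f 0 = 1 := by
    have := hf 0 0
    rw [add_zero] at this
    exact left_eq_mul.1 this
  let E : Subgroup T :=
    { carrier := Set.range f
      mul_mem' := by
        rintro _ _ ⟨x, rfl⟩ ⟨y, rfl⟩
        exact ⟨x + y, hf x y⟩
      one_mem' := ⟨0, f0⟩
      inv_mem' := by
        rintro _ ⟨x, rfl⟩
        refine ⟨x, ?_⟩
        have := hf x x
        rw [hxx, f0] at this
        exact eq_inv_of_mul_eq_one_left this.symm }
  have hw0 : w ≠ 0 := by
    rintro rfl
    norm_num at hw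
  have hw1 : w ≠ 1 := by
    rintro rfl
    have : (1 : K) = 0 := by linear_combination hw - h20
    exact one_ne_zero this
  -- transitivity
  have tr1 : ∀ x : K × K, x ≠ 0 → ∃ g : T, g * f (1, 0) * g⁻¹ = f x := by
    intro x hx
    by_cases h1 : x.1 = 0
    · have h3 : x.2 ≠ 0 := fun h3 => hx (Prod.ext h1 h3)
      obtain ⟨g, hg⟩ := hact 0 (-(x.2)⁻¹) x.2 0 (by field_simp; ring)
      refine ⟨g, ?_⟩
      rw [hg]
      congr 1
      ext
      · simp [h1]
      · simp
    · obtain ⟨g, hg⟩ := hact x.1 0 x.2 (x.1)⁻¹ (by field_simp; ring)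
      refine ⟨g, ?_⟩
      rw [hg]
      congr 1
      ext
      · simp
      · simp
  refine PA.ne_ten h h2 E (by
    rintro _ ⟨x, rfl⟩
    rw [← hf, hxx, f0]) ?_ ?_
  · -- three independent elements
    have ne : ∀ x y : K × K, x ≠ y → f x ≠ f y := fun x y hxy h => hxy (hinj h)
    refine ⟨f (1, 0), ⟨_, rfl⟩, f (0, 1), ⟨_, rfl⟩, f (w, 0), ⟨_, rfl⟩, ?_, ?_, ?_, ?_, ?_, ?_, ?_⟩
    · rw [← f0]; exact ne _ _ (by simp)
    · rw [← f0]; exact ne _ _ (by simp)
    · exact ne _ _ (by simp)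
    · rw [← f0]; exact ne _ _ (by simp [hw0])
    · exact ne _ _ (by simp [hw1])
    · exact ne _ _ (by simp)
    · rw [← hf]; exact ne _ _ (by simp)
  · rintro _ ⟨x, rfl⟩ _ ⟨z, rfl⟩ hx hz
    obtain ⟨g, hg⟩ := tr1 x (by rintro rfl; exact hx f0)
    obtain ⟨g', hg'⟩ := tr1 z (by rintro rfl; exact hz f0)
    refine ⟨g' * g⁻¹, ?_⟩
    rw [← hg, ← hg']
    group

open Matrix in
/-- **`PSL_3(4)`.** -/
theorem psl34_ne_ten (h : PA F n T) (h2 : (2 : F) ≠ 0) {K : Type v} [Field K] [Fintype K] (hK : Fintype.card K = 4)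
    (e : T ≃* ProjectiveSpecialLinearGroup (Fin 3) K) : n ≠ 10 := by
  have hpow : ∀ x : K, x ^ 4 = x := by
    intro x
    rw [← hK]; exact FiniteField.pow_card x
  have hchar : CharP K 2 := by
    obtain ⟨p, hp⟩ := CharP.exists K
    have : Fact p.Prime := ⟨CharP.char_is_prime K p⟩
    have h1 : p ∣ Fintype.card K := by
      obtain ⟨n, -, hn⟩ := FiniteField.card K p
      rw [hn]; exact dvd_pow_self _ n.pos.ne'
    rw [hK] at h1
    have h2 : p ∣ 2 := this.out.dvd_of_dvd_pow (show p ∣ 2 ^ 2 from h1)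
    rw [(Nat.prime_dvd_prime_iff_eq this.out Nat.prime_two).1 h2] at hp
    exact hp
  have hex : ∃ x : K, x ≠ 0 ∧ x ≠ 1 := by
    classical
    by_contra hcon
    push Not at hcon
    have h1 : (Finset.univ : Finset K) ⊆ {0, 1} := by
      intro x _
      rw [Finset.mem_insert, Finset.mem_singleton]
      by_cases h0 : x = 0
      · exact Or.inl h0
      · exact Or.inr (hcon x h0)
    have h2 := Finset.card_le_card h1
    rw [Finset.card_univ, hK] at h2
    have h3 : ({0, 1} : Finset K).card ≤ 2 := Finset.card_le_two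
    omega
  obtain ⟨w, hw0, hw1⟩ := hex
  have hw : w ^ 2 + w + 1 = 0 := by
    have h1 : w * (w - 1) * (w ^ 2 + w + 1) = 0 := by linear_combination hpow w
    exact (mul_eq_zero.1 h1).resolve_left (mul_ne_zero hw0 (sub_ne_zero.2 hw1))
  let f : K × K → ProjectiveSpecialLinearGroup (Fin 3) K := fun x => QuotientGroup.mk (tr3 x)
  refine PA.sixteen_ne_ten (h.congr e.symm) h2 hw f (fun x y => ?_) ?_ ?_
  · change QuotientGroup.mk _ = QuotientGroup.mk _ * QuotientGroup.mk _
    rw [tr3_add]; rfl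
  · intro x y hxy
    have h1 : (tr3 x)⁻¹ * tr3 y ∈ Subgroup.center (SpecialLinearGroup (Fin 3) K) := QuotientGroup.eq.1 hxy
    have h3 : (tr3 x)⁻¹ = tr3 (-x) := by
      rw [inv_eq_iff_mul_eq_one, ← tr3_add, add_neg_cancel]
      apply Subtype.ext
      change !![(1 : K), 0, 0; 0, 1, 0; 0, 0, 1] = 1
      exact Matrix.one_fin_three.symm
    rw [h3, ← tr3_add, Matrix.SpecialLinearGroup.mem_center_iff] at h1
    obtain ⟨r, -, hr⟩ := h1
    have e1 := congrFun (congrFun hr 0) 2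
    have e2 := congrFun (congrFun hr 1) 2
    have d1 : (Matrix.scalar (Fin 3) r) 0 2 = 0 := by simp
    have d2 : (Matrix.scalar (Fin 3) r) 1 2 = 0 := by simp
    have k1 : (-x + y).1 = 0 := by
      have : (tr3 (-x + y)).1 0 2 = (-x + y).1 := rfl
      rw [← this, ← d1]; exact e1.symm
    have k2 : (-x + y).2 = 0 := by
      have : (tr3 (-x + y)).1 1 2 = (-x + y).2 := rfl
      rw [← this, ← d2]; exact e2.symm
    ext
    · have : -x.1 + y.1 = 0 := k1
      linear_combination -this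
    · have : -x.2 + y.2 = 0 := k2
      linear_combination -this
  · intro a b c d hdet
    let g : SpecialLinearGroup (Fin 3) K := ⟨!![a, b, 0; c, d, 0; 0, 0, 1], by
      simp [Matrix.det_fin_three]; linear_combination hdet⟩
    refine ⟨QuotientGroup.mk g, fun x => ?_⟩
    rw [mul_inv_eq_iff_eq_mul]
    change QuotientGroup.mk _ * QuotientGroup.mk _ = QuotientGroup.mk _ * QuotientGroup.mk _
    have key : g * tr3 x = tr3 (a * x.1 + b * x.2, c * x.1 + d * x.2) * g := by
      apply Subtype.ext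
      change !![a, b, 0; c, d, 0; 0, 0, 1] * !![1, 0, x.1; 0, 1, x.2; 0, 0, 1] =
        !![1, 0, a * x.1 + b * x.2; 0, 1, c * x.1 + d * x.2; 0, 0, 1] * !![a, b, 0; c, d, 0; 0, 0, 1]
      ext i j
      fin_cases i <;> fin_cases j <;> simp [Matrix.mul_apply, Fin.sum_univ_three]
    exact congrArg QuotientGroup.mk key

end Cfsg.Agent.H912.Sp10
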