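import Cfsg.Agent.H912.Sp10.AltFix
import Cfsg.Agent.H24.M12.Main
import Cfsg.Agent.H871.Par3

/-!
# The double cover of `M₁₂` has no symplectic representation of degree ten (helper912)

* `exists_alt` : the alternating form over the algebraic closure;
* `two_m12` : `Soc P ≅ M₁₂`, non-trivial scalars, `n = 10`, `FixA P`, `p` odd: false.
-/

set_option autoImplicit false
set_option linter.unusedSectionVars false
set_option maxRecDepth 100000

namespace Cfsg.Agent.H912.Sp10

open Cfsg Cfsg.Geo Matrix Module Cfsg.Agent.H24.M12 Cfsg.Agent.H932.Mt Cfsg.Agent.H871.Par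
open Cfsg.Agent.H915.LD (Core Soc toSoc ker_comp toSoc_surjective FixA scalars_le_center)

universe u

variable {ι : Type} [Fintype ι] [DecidableEq ι] {F : Type u} [Field F] {P : Subgroup (GL ι F)}

/-- the alternating form over the algebraic closure -/
theorem exists_alt (hA : FixA P) (h2 : (2 : F) ≠ 0) :
    ∃ B : LinearMap.BilinForm (AlgebraicClosure F) (ι → AlgebraicClosure F),
      (∀ u, (∀ v, B u v = 0) → u = 0) ∧ (∀ g u v, B (repP P g u) (repP P g v) = B u v) ∧ B.IsAlt := by
  obtain ⟨f, hf, hfix⟩ := hA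
  obtain ⟨B, h1, h3, h4⟩ := exists_form hf.bilinear hf.nondegenerate hfix
  refine ⟨B, h1, h3, ?_⟩
  have hskew : (gram f)ᵀ = - gram f := by
    ext i j
    exact hf.skew _ _
  intro u
  have h5 : B u u = - B u u := by
    conv_lhs => rw [h4, Matrix.dotProduct_mulVec, ← Matrix.mulVec_transpose, dotProduct_comm]
    rw [h4, ← Matrix.transpose_map, hskew]
    have h6 : (-gram f).map (algebraMap F (AlgebraicClosure F)) = - (gram f).map (algebraMap F (AlgebraicClosure F)) := by
      ext i j
      simp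
    rw [h6, Matrix.neg_mulVec, dotProduct_neg]
  have h6 : (2 : AlgebraicClosure F) * B u u = 0 := by linear_combination h5
  exact (mul_eq_zero.1 h6).resolve_left (two_ne h2)

/-- an element of order four -/
def Wg : List ℕ := LW 2 ++ LW 2
/-- its square -/
def Wz : List ℕ := Wg ++ Wg
/-- an involution commuting with it -/
def Wu : List ℕ := [2, 2, 2, 1, 2, 1, 0, 1, 0, 0, 0]

theorem isConj_of {a b c : List ℕ} (h : eqw (c ++ a) (b ++ c) = true) : IsConj (el a) (el b) := by
  have h1 := el_eq h
  rw [el_append, el_append] at h1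
  refine isConj_iff.2 ⟨el c, ?_⟩
  rw [h1, mul_inv_cancel_right]

theorem gg_eq : el Wg * el Wg = el Wz := (el_append _ _).symm

theorem zz_eq : el Wz * el Wz = 1 := by
  have h : eqw (Wz ++ Wz) [] = true := by decide +kernel
  have h1 := el_eq h
  rwa [el_append, el_nil] at h1

theorem uu_eq : el Wu * el Wu = 1 := by
  have h : eqw (Wu ++ Wu) [] = true := by decide +kernel
  have h1 := el_eq h
  rwa [el_append, el_nil] at h1

theorem uz_eq : el Wu * el Wz = el Wz * el Wu := by
  have h : eqw (Wu ++ Wz) (Wz ++ Wu) = true := by decide +kernel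
  have h1 := el_eq h
  rwa [el_append, el_append] at h1

theorem conj_zu : IsConj (el Wz) (el Wu) := isConj_of (c := [1, 0, 1, 2, 2, 2]) (by decide +kernel)

theorem conj_zzu : IsConj (el Wz) (el Wz * el Wu) := by
  rw [← el_append]
  exact isConj_of (c := [0, 0, 1, 0, 0, 1, 2]) (by decide +kernel)

theorem conj_gn : IsConj (el Wg) (Cfsg.Agent.H932.Mt.neg * el Wg) := by
  rw [← el_nw, ← el_append]
  exact isConj_of (c := [1, 2, 1, 2, 1, 2, 2, 2, 2, 2, 1, 0, 0, 1, 0]) (by decide +kernel)

theorem z_ne : el Wz ≠ 1 := by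
  intro h
  rw [← el_nil] at h
  have h1 := eqw_of_el h
  have h2 : eqw Wz [] = false := by decide +kernel
  rw [h1] at h2
  exact absurd h2 (by decide)

theorem two_m12_aux {φ : Γ →* P} (hinj : Function.Injective φ)
    (hneg : ((φ Cfsg.Agent.H932.Mt.neg : GL ι F) : Matrix ι ι F) = (-1 : F) • (1 : Matrix ι ι F)) (hA : FixA P)
    (hn : Fintype.card ι = 10) (h2 : (2 : F) ≠ 0) {g z u : Γ}
    (hgz : g * g = z) (hz : z * z = 1) (hu : u * u = 1) (huz : u * z = z * u)
    (hc1 : IsConj z u) (hc2 : IsConj z (z * u)) (hgn : IsConj g (Cfsg.Agent.H932.Mt.neg * g)) (hz1 : z ≠ 1) : False := by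
  obtain ⟨B, hnd, hinv, hAlt⟩ := exists_alt hA h2
  have hV : finrank (AlgebraicClosure F) (ι → AlgebraicClosure F) = 10 := by
    rw [Module.finrank_fintype_fun_eq_card, hn]
  have hn1 : ((repP P).comp φ) Cfsg.Agent.H932.Mt.neg = -1 := by
    refine LinearMap.ext fun v => ?_
    rw [MonoidHom.comp_apply, repP_apply, hneg, LinearMap.neg_apply, Module.End.one_apply]
    have h4 : ((-1 : F) • (1 : Matrix ι ι F)).map (algebraMap F (AlgebraicClosure F)) = -1 := by
      ext i j
      simp [Matrix.map_apply, Matrix.one_apply, apply_ite (algebraMap F (AlgebraicClosure F))]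
    rw [h4, Matrix.neg_mulVec, Matrix.one_mulVec]
  have hz2 : ((repP P).comp φ) z ≠ 1 := by
    intro h
    apply hz1
    apply hinj
    apply repP_injective P
    rw [map_one, map_one]
    exact h
  exact no_ten ((repP P).comp φ) B hnd (fun g => hinv (φ g)) hAlt (two_ne h2) hV hgz hz hu huz hc1 hc2 hn1 hgn hz2

/-- **The double cover of `M₁₂`.** -/
theorem two_m12 [Finite F] (hC : Core P) (hA : FixA P) (e : Soc P ≃* Spor.M12) (hn : Fintype.card ι = 10)
    (h2 : (2 : F) ≠ 0) (hZ : (scalars ι F).subgroupOf P ≠ ⊥) : False := by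
  obtain ⟨φ, hφ, hφe⟩ := exists_cover hC e
  exact two_m12_aux (phi_injective e hφ hφe hZ) (phi_neg e hφ hφe hZ) hA hn h2 gg_eq zz_eq uu_eq uz_eq conj_zu conj_zzu
    conj_gn z_ne

end Cfsg.Agent.H912.Sp10
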