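import Cfsg.Agent.H912.Sp10.Fam
import Cfsg.Agent.H912.Sp10.TwoM12
import Cfsg.Agent.H36.M12.Kill

/-!
# `M₁₂` in degree ten with an invariant alternating form (helper912)

* `three_trans` : transitivity on triples;
* `m12_fixQ` : `Soc P ≅ M₁₂`, `n = 10`, `FixA P`: `FixQ P`.
-/

set_option autoImplicit false
set_option linter.unusedSectionVars false
set_option maxRecDepth 100000

namespace Cfsg.Agent.H912.Sp10

open Cfsg Cfsg.Geo Module Cfsg.Agent.H36.M12 Cfsg.Agent.CoThreeStd.MTwelve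
open Cfsg.Agent.H915.LD (Core Soc toSoc FixA FixQ)
open scoped Matrix

universe u

/-- `M₁₂` is transitive on ordered triples -/
theorem three_trans {i j k : Fin 12} (hij : i ≠ j) (hik : i ≠ k) (hjk : j ≠ k) :
    ∃ g : Spor.M12, pm g 7 = i ∧ pm g 10 = j ∧ pm g 8 = k := by
  obtain ⟨g1, h1, h2⟩ := exists_rep hij
  have h7 : pm g1⁻¹ k ≠ 7 := by
    intro h
    apply hik
    rw [← h1, ← h, map_inv]
    exact (pm g1).apply_symm_apply k
  have h10 : pm g1⁻¹ k ≠ 10 := by
    intro h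
    apply hjk
    rw [← h2, ← h, map_inv]
    exact (pm g1).apply_symm_apply k
  obtain ⟨j', hj1, hj2, hj3⟩ : ∃ j' : Fin 12, j' ≠ 7 ∧ j' ≠ 10 ∧ pm g1⁻¹ k ≠ j' := by
    by_cases h8 : pm g1⁻¹ k = 8
    · exact ⟨9, by decide, by decide, by rw [h8]; decide⟩
    · exact ⟨8, by decide, by decide, h8⟩
  have hF : Fix4 (F := ℚ) (V := ℚ) (1 : Spor.M12 →* Module.End ℚ ℚ) 0 := ⟨map_zero _, map_zero _, map_zero _, map_zero _⟩
  obtain ⟨g2, -, a1, a2, a3, -⟩ := exists_mv hF hj3 h7 h10 hj1 hj2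
  refine ⟨g1 * g2, ?_, ?_, ?_⟩
  · rw [map_mul, Equiv.Perm.mul_apply, a1, h1]
  · rw [map_mul, Equiv.Perm.mul_apply, a2, h2]
  · rw [map_mul, Equiv.Perm.mul_apply, a3, map_inv]
    exact (pm g1).apply_symm_apply k

variable {F : Type u} [Field F] {P : Subgroup (GL (Fin 10) F)} {f : (Fin 10 → F) → (Fin 10 → F) → F}

theorem fam_const (e : P ≃* Spor.M12) {W : Fin 12 → Fin 12 → Fin 10 → F} (hW : Cfsg.Agent.H36.M12.Fam (RR e) W)
    (hfix : FixesForm (matrixSet P) f) (i j k : Fin 12) (hij : i ≠ j) (hik : i ≠ k) (hjk : j ≠ k) :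
    f (W i j) (W i k) = f (W 7 10) (W 7 8) := by
  obtain ⟨g, h1, h2, h3⟩ := three_trans hij hik hjk
  have a1 := hW.act g 7 10
  have a2 := hW.act g 7 8
  rw [h1, h2] at a1
  rw [h1, h3] at a2
  rw [← a1, ← a2, RR_apply, RR_apply]
  exact hfix _ ⟨_, (e.symm g).2, rfl⟩ _ _

theorem fam_act (e : P ≃* Spor.M12) {W : Fin 12 → Fin 12 → Fin 10 → F} (hW : Cfsg.Agent.H36.M12.Fam (RR e) W) :
    ∀ g ∈ P, ∃ τ : Equiv.Perm (Fin 12), ∀ i j, (g : Matrix (Fin 10) (Fin 10) F) *ᵥ W i j = W (τ i) (τ j) := by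
  intro g hg
  refine ⟨pm (e ⟨g, hg⟩), fun i j => ?_⟩
  have h1 := hW.act (e ⟨g, hg⟩) i j
  rw [RR_apply, e.symm_apply_apply] at h1
  exact h1

theorem fam_two (hC : Core P) (hf : IsSymplecticForm f) (hfix : FixesForm (matrixSet P) f) (e : P ≃* Spor.M12)
    (h2 : (2 : F) = 0) {W : Fin 12 → Fin 12 → Fin 10 → F} (hW : Cfsg.Agent.H36.M12.Fam (RR e) W) : FixQ P :=
  fixQ_fam h2 hC hf hfix (by rw [Fintype.card_fin]) (Or.inr rfl) hW.add (hW.ne 7 10 (by decide)) (fam_act e hW)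
    (fam_const e hW hfix)

theorem fam_odd (hC : Core P) (hf : IsSymplecticForm f) (hfix : FixesForm (matrixSet P) f) (e : P ≃* Spor.M12)
    (h2 : (2 : F) ≠ 0) {W : Fin 12 → Fin 12 → Fin 10 → F} (hW : Cfsg.Agent.H36.M12.Fam (RR e) W) : False := by
  have hc := fam_const e hW hfix
  have h0 : f (W 7 10) (W 7 8) = 0 := by
    have h1 := hc 7 8 10 (by decide) (by decide) (by decide)
    have h3 := hf.skew (W 7 10) (W 7 8)
    rw [h1] at h3
    have h4 : (2 : F) * f (W 7 10) (W 7 8) = 0 := by linear_combination h3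
    exact (mul_eq_zero.1 h4).resolve_left h2
  have hne := hW.ne 7 10 (by decide)
  have key : ∀ x ∈ Submodule.span F (Set.range fun i => W i 7), f (W 7 10) x = 0 := by
    intro x hx1
    induction hx1 using Submodule.span_induction with
    | mem x hx =>
      obtain ⟨i, rfl⟩ := hx
      dsimp only
      rw [hW.neg 7 i]
      have h1 : f (W 7 10) (-W 7 i) = - f (W 7 10) (W 7 i) := by
        rw [← neg_one_smul F, hf.bilinear.smul_right, neg_one_mul]
      rw [h1, neg_eq_zero]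
      by_cases h7 : i = 7
      · rw [h7, hW.self, ← zero_smul F (0 : Fin 10 → F), hf.bilinear.smul_right, zero_mul]
      by_cases h10 : i = 10
      · rw [h10, hf.alternating]
      · rw [hc 7 10 i (by decide) (Ne.symm h7) (Ne.symm h10), h0]
    | zero => rw [← zero_smul F (0 : Fin 10 → F), hf.bilinear.smul_right, zero_mul]
    | add x y _ _ h1 h2 => rw [hf.bilinear.add_right, h1, h2, add_zero]
    | smul c x _ h1 => rw [hf.bilinear.smul_right, h1, mul_zero]
  obtain ⟨-, x, hx⟩ := hf.nondegenerate _ hne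
  apply hx
  apply key
  rw [W_span hC hW.add hne (fam_act e hW) 7]
  trivial

/-- **`M₁₂` in degree ten.** -/
theorem m12_fixQ [Finite F] (hC : Core P) (hA : FixA P) (h : Spor.IsoM12 (Soc P)) : FixQ P := by
  by_cases h2 : (2 : F) = 0
  · obtain ⟨f, hf, hfix⟩ := hA
    rcases Cfsg.Agent.H6.M11.m12_cases hC h with ⟨⟨e⟩⟩ | ⟨-, -, h3, -⟩
    · let B : LinearMap.BilinForm F (Fin 10 → F) := LinearMap.mk₂ F f hf.bilinear.add_left hf.bilinear.smul_left
        hf.bilinear.add_right hf.bilinear.smul_right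
      obtain ⟨W, hW⟩ := exists_fam_two (RR e) h2 (irr_RR hC e) finrank_ten B
        ⟨fun v hv => by
          by_contra h0
          obtain ⟨-, x, hx⟩ := hf.nondegenerate v h0
          exact hx (hv x), fun v hv => by
          by_contra h0
          obtain ⟨⟨x, hx⟩, -⟩ := hf.nondegenerate v h0
          exact hx (hv x)⟩ (fun g x y => by
          rw [RR_apply, RR_apply]
          exact hfix _ ⟨_, (e.symm g).2, rfl⟩ _ _)
      exact fam_two hC hf hfix e h2 hW
    · exact absurd h2 h3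
  · exfalso
    rcases Cfsg.Agent.H6.M11.m12_cases hC h with ⟨⟨e⟩⟩ | ⟨h3, -⟩
    · obtain ⟨f, hf, hfix⟩ := hA
      rcases exists_fixd (RR e) h2 (irr_RR hC e) finrank_ten with ⟨v, hv⟩ | ⟨v, hv⟩
      · exact fam_odd hC hf hfix e h2 (hv.fam h2 (irr_RR hC e) finrank_ten)
      · have h1 : (RR e).comp Cfsg.Agent.H36.M12.beta = RR (e.trans betaE.symm) := by
          apply MonoidHom.ext
          intro m
          rfl
        rw [h1] at hv
        exact fam_odd hC hf hfix (e.trans betaE.symm) h2 (hv.fam h2 (irr_RR hC _) finrank_ten)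
    · obtain ⟨e⟩ := h
      refine two_m12 hC hA e (by rw [Fintype.card_fin]) h2 ?_
      intro h4
      rw [h4, Subgroup.card_bot] at h3
      norm_num at h3

end Cfsg.Agent.H912.Sp10
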