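import Cfsg.Agent.H936.List12c
import Cfsg.Agent.H912.Sp10.A7Row
import Cfsg.Agent.H912.Sp10.AltM
import Cfsg.Agent.H912.Sp10.MTwelve
import Cfsg.Agent.H912.Sp10.Eight
import Cfsg.Agent.H908.SpTenCov
import Cfsg.Agent.H464.L2Num
import Cfsg.Agent.H464.L2Two
import Cfsg.Agent.H830.Sl2Type
import Cfsg.Agent.H175.LD.Core33
import Cfsg.Agent.H936.U33All
import Cfsg.Agent.H659.Sp4NotSD
import Cfsg.Agent.H36.U52.Main
import Cfsg.Agent.H937.T2Rep
import Cfsg.Agent.H937.G24.Row
import Cfsg.Agent.H814.SzEightCore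
import Cfsg.Agent.H13.M22.Elts
import Cfsg.Agent.H921.M22.Two
import Cfsg.Agent.H4.LDM.Stage24
import Cfsg.Agent.H659.J1Not11
import Cfsg.Agent.H179.JoneL
import Cfsg.Agent.H95.JT.Core
import Cfsg.Agent.H878.Sz.MainP3
import Cfsg.Agent.H878.Sz.MainThree
import Cfsg.Agent.H871.Par10
import Cfsg.Agent.H929.UThreeSD
import Cfsg.Agent.H363.PslCard
import Cfsg.Agent.H912.Reidx
import Cfsg.Agent.H905.JDCard

/-!
# Residual cores in `Sp₁₀(q)`: cross characteristic (helper912)

`P ≤ GL₁₀(F)` a core fixing an alternating form and no quadratic form, `Soc P` a known simple group, not of Lie type in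
characteristic `p`: then `Soc P` is `A₆`, `L₂(11)` or `U₅(2)`, with the fields.
-/

set_option autoImplicit false
set_option linter.unusedSectionVars false

namespace Cfsg.Agent.H912.Sp10

open Cfsg Cfsg.Geo Matrix Cfsg.Agent.H871.Par Cfsg.Agent.H936.List12 Cfsg.Agent.H912.Bd
open Cfsg.Agent.H915.LD

universe u v

section

variable {ι : Type} [Fintype ι] [DecidableEq ι] {F : Type u} [Field F] {P : Subgroup (GL ι F)}

theorem sd_of_fixA (h : FixA P) : SD P := by
  obtain ⟨f, hf, hfix⟩ := h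
  have hJ : (gram f).det ≠ 0 := (gram_isUnit hf.bilinear hf.nondegenerate)
  exact Cfsg.Agent.H929.U3.sd_of_gram hJ fun g hg => gram_fix hf.bilinear hfix hg

end

/-! ### `M₂₂`, odd characteristic -/

section

open Cfsg.Agent.H13.M22 Cfsg.Agent.SporadicA.GolayBase Cfsg.Agent.SporadicA.GolayPerm Cfsg.Agent.H921.Spor.M24

theorem m22_ne_ten {F : Type u} [Field F] {n : ℕ} {T : Type v} [Group T] (h : PA F n T) (h2 : (2 : F) ≠ 0)
    (e : T ≃* Spor.M22) : n ≠ 10 := by
  have h' : PA F n Spor.M22 := h.congr e.symm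
  have hsq : ∀ a ∈ E22, a * a = 1 := fun a ha => by rw [← pow_two]; exact f53.sq a ha
  have hm : ∀ k, k < 16 → EL.getD k 0 ∈ EL := by decide
  have hne : ∀ P ∈ EL, ∀ Q ∈ EL, ∀ i, i < 24 → papp (pcomp P Q) i ≠ i → em P ≠ em Q := by
    intro P hP Q hQ i hi h1 h3
    apply em_ne_one (okM_pcomp (ok_EL P hP) (ok_EL Q hQ)) hi h1
    rw [em_mul (ok_EL P hP) (ok_EL Q hQ), h3]
    exact hsq _ (em_mem_E22 hQ)
  have h1 := hm 1 (by norm_num)
  have h2' := hm 2 (by norm_num)
  have h3 := hm 3 (by norm_num)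
  have h9 := hm 9 (by norm_num)
  have h12 : em (EL.getD 1 0) * em (EL.getD 2 0) = em (EL.getD 9 0) := by
    rw [← em_mul (ok_EL _ h1) (ok_EL _ h2')]
    congr 1
  refine PA.ne_ten h' h2 E22 hsq ⟨em (EL.getD 1 0), em_mem_E22 h1, em (EL.getD 2 0), em_mem_E22 h2',
    em (EL.getD 3 0), em_mem_E22 h3, em_ne_one (ok_EL _ h1) (i := 4) (by norm_num) (by decide +kernel),
    em_ne_one (ok_EL _ h2') (i := 3) (by norm_num) (by decide +kernel),
    hne _ h2' _ h1 3 (by norm_num) (by decide +kernel),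
    em_ne_one (ok_EL _ h3) (i := 3) (by norm_num) (by decide +kernel),
    hne _ h3 _ h1 3 (by norm_num) (by decide +kernel), hne _ h3 _ h2' 3 (by norm_num) (by decide +kernel), ?_⟩ ?_
  · rw [h12]
    exact hne _ h3 _ h9 3 (by norm_num) (by decide +kernel)
  · intro a ha b hb ha1 hb1
    obtain ⟨c, hc⟩ := E22_conj a ha ha1
    obtain ⟨d, hd⟩ := E22_conj b hb hb1
    refine ⟨d * c⁻¹, ?_⟩
    rw [← hd, ← hc]
    group

end

/-! ### The list -/

section

variable {F : Type u} [Field F] [Finite F] {p : ℕ} [CharP F p] [hp : Fact p.Prime]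

theorem cast_ne_zero {q : ℕ} (hq : q.Prime) (h : p ≠ q) : ((q : ℕ) : F) ≠ 0 := by
  intro h1
  have h2 := (CharP.cast_eq_zero_iff F p q).1 h1
  exact h ((Nat.prime_dvd_prime_iff_eq hp.out hq).1 h2)

theorem not_isL {P : Subgroup (GL (Fin 10) F)} (hC : Core P) (hA : FixA P)
    (hL : ¬ IsLieTypeChar p (Soc P)) {q : ℕ} (hq : 5 ≤ q) (hq9 : q ≠ 9) (h11 : q ≠ 11) (hpq : ¬ p ∣ q) :
    ¬ IsL 2 q (Soc P) := by
  rintro ⟨K, iF, iT, hK, ⟨e⟩⟩
  have h := H464.Sl2.l2_degrees p hC (K := K) (by omega) (by omega) (by rwa [hK]) e (by simp)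
  simp only [Fintype.card_fin] at h
  rw [hK] at h
  rcases h with h | h | h | h | h | h | h | h | h
  · have := h.2; revert this; decide
  · have := h.2; revert this; decide
  · have := h.2; revert this; decide
  · exact h11 h.1
  · have := h.2; revert this; decide
  · have := h.2; revert this; decide
  · have := Fintype.ofFinite F
    have h19 : p ≠ 19 := by
      rintro rfl
      apply hpq
      rw [h.1]
    exact (H464.Sl2.l2_19_10 p hC (by rw [hK]; exact h.1) h19 e (by simp)).2.1 (sd_of_fixA hA)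
  · have := h.2; revert this; decide
  · have := h.2; omega

variable (p) in
include hp in
/-- The sporadic groups, except `M₁₁`. -/
theorem spor {P : Subgroup (GL (Fin 10) F)} (hC : Core P) (hA : FixA P) (hQ : ¬ FixQ P) (h : SporC (Soc P)) :
    Spor.IsoM11 (Soc P) := by
  have hn : Fintype.card (Fin 10) ≤ 12 := by simp
  have hc : Fintype.card (Fin 10) = 10 := by simp
  have hSD := sd_of_fixA hA
  have := Fintype.ofFinite F
  rcases h with h | h | h | h | h | h | h | h | h
  · exact h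
  · exact absurd (m12_fixQ hC hA h) hQ
  · exfalso
    obtain ⟨e⟩ := h
    rcases eq_or_ne p 2 with rfl | hp2
    · rcases H921.M22.two e hC hn with h | h | h
      · omega
      · exact h.2.2 hSD
      · omega
    · exact m22_ne_ten (pa_of_fixA hA (by exact_mod_cast cast_ne_zero (F := F) Nat.prime_two hp2) e)
        (by exact_mod_cast cast_ne_zero (F := F) Nat.prime_two hp2) (MulEquiv.refl _) hc
  · exfalso
    obtain ⟨e⟩ := h
    have h1 := (H4.LDM.Stage.m23_low hC e p hn).2.1
    omega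
  · exfalso
    obtain ⟨e⟩ := h
    have h1 := (H4.LDM.Stage.m24_low hC e p hn).2.1
    omega
  · exfalso
    rcases eq_or_ne p 11 with rfl | hp11
    · have h1 := H179.JOne.j1_le12_iso hC h (by exact_mod_cast CharP.cast_eq_zero F 11) hn
      omega
    · exact H659.J1.not_core hC h p hp11 hn
  · exfalso
    have h1 := H905.JD.J2_six hC h hn
    omega
  · exfalso
    have h1 := (H95.JT.j3 p hC h hn).2.1
    omega
  · exfalso
    obtain ⟨e⟩ := h
    rcases eq_or_ne p 3 with rfl | hp3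
    · have h1 := (H878.Sz.core_Suz_three hC e hn).1
      omega
    · have h1 := (H878.Sz.core_Suz hC e hn p hp3).1
      omega

/-- Alternating groups. -/
theorem altc {P : Subgroup (GL (Fin 10) F)} (hC : Core P) (hA : FixA P) (hQ : ¬ FixQ P)
    (hL : ¬ IsLieTypeChar p (Soc P)) {m : ℕ} (hm : 5 ≤ m) (e : Soc P ≃* alternatingGroup (Fin m)) :
    m = 6 := by
  have hc : Fintype.card (Fin 10) = 10 := by simp
  rcases eq_or_ne m 5 with rfl | hm5
  · exfalso
    rcases eq_or_ne p 5 with rfl | hp5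
    · apply hL
      have : Fact (Nat.Prime 5) := ⟨by norm_num⟩
      obtain ⟨e'⟩ := S0253.result (F := ZMod 5) (by simp)
      exact lie_of_isL (by norm_num) (dvd_refl 5) le_rfl (by norm_num) ⟨ZMod 5, inferInstance, inferInstance, by simp,
        ⟨e.trans e'.symm⟩⟩
    · have h := H937.T2.a5_dims p hC e hp5
      rw [hc] at h
      revert h
      decide
  rcases eq_or_ne m 6 with rfl | hm6
  · rfl
  exfalso
  rcases eq_or_ne m 7 with rfl | hm7
  · by_cases h7 : (7 : F) = 0
    · exact H908.SpTen.a7_seven hC hA hc e h7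
    · exact a7_ne_seven hC hA hc e h7
  rcases eq_or_ne p 2 with rfl | hp2
  · rcases eq_or_ne m 8 with rfl | hm8
    · apply hL
      have : Fact (Nat.Prime 2) := ⟨by norm_num⟩
      obtain ⟨e'⟩ := S0256.result (F := ZMod 2) (by simp)
      exact lie_of_isL (by norm_num) (dvd_refl 2) (by norm_num) (by norm_num) ⟨ZMod 2, inferInstance, inferInstance,
        by simp, ⟨e.trans e'.symm⟩⟩
    · exact hQ (alt_two hC hA hc (by exact_mod_cast CharP.cast_eq_zero F 2) e (by omega))
  · have h2 : (2 : F) ≠ 0 := by exact_mod_cast cast_ne_zero (F := F) Nat.prime_two hp2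
    have h := (pa_of_fixA hA h2 e).of_frob8 h2 (frob8_alt (by omega))
    rw [hc] at h
    omega

/-- **Cross characteristic.** -/
theorem cross {P : Subgroup (GL (Fin 10) F)} (hC : Core P) (hA : FixA P) (hQ : ¬ FixQ P)
    (hK : IsKnownSimple' (Soc P)) (hL : ¬ IsLieTypeChar p (Soc P)) (hM : ¬ Spor.IsoM11 (Soc P)) :
    Nonempty (Soc P ≃* alternatingGroup (Fin 6)) ∨
    (Nonempty (Soc P ≃* Matrix.ProjectiveSpecialLinearGroup (Fin 2) (ZMod 11)) ∧ p ≠ 2 ∧ p ≠ 11 ∧
      (Nat.card F = p ∨ (Nat.card F = p ^ 2 ∧ (p % 12 = 5 ∨ p % 12 = 7)))) ∨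
    (IsU 5 2 (Soc P) ∧ p ≠ 2 ∧ Nat.card F = p) := by
  have hn : Fintype.card (Fin 10) ≤ 12 := by simp
  have hc : Fintype.card (Fin 10) = 10 := by simp
  have hSD := sd_of_fixA hA
  have iF := Fintype.ofFinite F
  have h2 : p ≠ 2 → (2 : F) ≠ 0 := fun h => by exact_mod_cast cast_ne_zero (F := F) Nat.prime_two h
  have u42 : ∀ (hp2 : p ≠ 2) (hp3 : p ≠ 3), IsU 4 2 (Soc P) → False := by
    rintro hp2 hp3 ⟨K, _, _, hK, ⟨e⟩⟩
    have := H659.Sp4.sd_six' hC p hp2 hp3 hn hK e hSD
    omega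
  have s32 : ∀ (hp2 : p ≠ 2), IsS 3 2 (Soc P) → False := by
    rintro hp2 ⟨K, _, _, hK, ⟨e⟩⟩
    have : CharP K 2 := charP_of_dvd (p := 2) Nat.prime_two (by rw [hK])
    have h := (pa_of_fixA hA (h2 hp2) e).of_frob8 (h2 hp2) frob8_psp
    omega
  have o42 : ∀ (hp2 : p ≠ 2), IsOP 4 2 (Soc P) → False := by
    rintro hp2 ⟨K, _, _, hK, ⟨e⟩⟩
    have : CharP K 2 := charP_of_dvd (p := 2) Nat.prime_two (by rw [hK])
    have h := (pa_of_fixA hA (h2 hp2) e).of_frob8 (h2 hp2) (frob8_plus (by norm_num))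
    omega
  rcases list₂ (p := p) (n := 10) (by norm_num) hC hK hL with h | h | h | h | h
  · obtain ⟨m, hm, -, -, -, -, ⟨e⟩⟩ := h
    obtain rfl := altc hC hA hQ hL hm e
    exact Or.inl ⟨e⟩
  · rcases h with h | h | h | h | h | h | h | h | h
    · obtain ⟨q, hq, hpq, -, h⟩ := h
      have hq' : 5 ≤ q ∧ q ≠ 9 := by
        simp only [Finset.mem_insert, Finset.mem_singleton] at hq
        omega
      by_cases h11 : q = 11
      · subst h11
        obtain ⟨K, _, _, hK, ⟨e⟩⟩ := h
        have hp11 : p ≠ 11 := by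
          rintro rfl
          exact hpq dvd_rfl
        have hp2 : p ≠ 2 := by
          rintro rfl
          exact hQ (H464.Sl2.l2_fixQ_two hC (by omega) (by omega) (by rw [hK]; decide) e (Or.inl (by rw [hK]; simp)))
        refine Or.inr (Or.inl ⟨?_, hp2, hp11, ?_⟩)
        · have : Fact (Nat.Prime 11) := ⟨by norm_num⟩
          obtain ⟨e'⟩ := H363.PslCard.psl_of_card (n := Fin 2) (F := K) (F' := ZMod 11) (by rw [hK]; simp)
          exact ⟨e.trans e'⟩
        · have h1 := H464.Sl2.l2_11_10 p hC hK hp11 e hc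
          rw [Nat.card_eq_fintype_card]
          rcases h1 with h1 | h1 | h1
          · exact Or.inl h1.2
          · exact Or.inl h1.2.2
          · exact Or.inr h1.2.2
      · exact absurd h (not_isL hC hA hL hq'.1 hq'.2 h11 hpq)
    · exfalso
      obtain ⟨hp3, -, K, _, _, hK, ⟨e⟩⟩ := h
      have := (H175.L33.l33 hC p hp3 hK e hn).2.2.2
      omega
    · exfalso
      obtain ⟨hp3, -, K, _, _, hK, e⟩ := h
      have := H936.U33All.u33_all hC p hp3 hn (by rw [hK]; norm_num) e
      omega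
    · exfalso
      have := h.2.1
      omega
    · exact (u42 h.1 h.2.1 h.2.2.2).elim
    · obtain ⟨hp2, -, h⟩ := h
      refine Or.inr (Or.inr ⟨h, hp2, ?_⟩)
      obtain ⟨K, _, _, hK, ⟨e⟩⟩ := h
      rcases H36.U52.t6 hC p hp2 (by norm_num) (by rw [hK]; norm_num) e with h | h
      · rw [Nat.card_eq_fintype_card]
        exact hC.card_eq p h.2.2
      · omega
    · exfalso
      have := h.2.1
      omega
    · exact (s32 h.1 h.2.2).elim
    · exact (o42 h.1 h.2.2).elim
  · exfalso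
    rcases h with ⟨hp2, -, h⟩ | h
    · rcases h with h | h | h | h | h | h
      · by_cases hp7 : p ∣ 7
        · apply hL
          exact lie_of_isL hp.out hp7 le_rfl (by norm_num) h
        · exact not_isL hC hA hL (by norm_num) (by norm_num) (by norm_num) hp7 h
      · obtain ⟨K, _, _, hK, ⟨e⟩⟩ := h
        exact psl34_ne_ten (pa_of_fixA hA (h2 hp2) e) (h2 hp2) hK (MulEquiv.refl _) hc
      · exact u42 hp2 h.1 h.2
      · exact s32 hp2 h
      · exact o42 hp2 h
      · have := (H937.G24.row hC h p hp2 hn).1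
        omega
    · have := h.2.1
      omega
  · exfalso
    have := (H814.Sz8.core_sz8 hC (h2 h.1) hn h.2.2).1
    omega
  · exact absurd (spor p hC hA hQ h) hM

end

end Cfsg.Agent.H912.Sp10
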