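import Cfsg.Agent.H911.AdForm
import Cfsg.Agent.H911.AdAltIrr
import Cfsg.Agent.H911.UF.All
import Cfsg.Agent.H887.DS.SixFive
import Cfsg.Agent.H887.DS.Low
import Cfsg.Agent.H905.Sp4Final
import Cfsg.Agent.H924.D5L
import Cfsg.Agent.H925.NatMain
import Cfsg.Agent.H929.UThreeSD
import Cfsg.Agent.H861.SzN.Main
import Cfsg.Agent.H708.ReeSix
import Cfsg.Agent.H927.G2Main
import Cfsg.Agent.H927.LDTwF4
import Cfsg.Agent.H392.TD.Main
import Cfsg.Agent.H875.PslRows
import Cfsg.Agent.H905.MdN
import Cfsg.Agent.H937.T2Fields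
import Cfsg.Agent.H912.Reidx
import Cfsg.Agent.H912.Sp10.Cross

/-!
# Residual cores in `Sp₁₀(q)`: the own characteristic (helper912)

`own` : `H` maximal in `spGL 5 F` with core `P` of Lie type in the characteristic of `F`, fixing no quadratic form:
`Soc P ≅ L₂(F)` and `11 ≤ p`. The rows as in `H932.O10Own` (helper932).
-/

set_option autoImplicit false
set_option linter.unusedSectionVars false

namespace Cfsg.Agent.H912.Sp10.Own

open Cfsg Cfsg.Geo Matrix Cfsg.Agent.H915.LD Cfsg.Agent.H925.Nat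

universe u

variable {F : Type u} [Field F]

/-- `SL_n(F)`, `n ≥ 3`, fixes no alternating form (after helper922) -/
theorem not_fixA_sl {n : ℕ} (hn : 3 ≤ n) : ¬ FixA (specialLinear (Fin n) F) := by
  rintro ⟨f, hf, hP⟩
  let i : Fin n := ⟨0, by omega⟩
  have key : ∀ j : Fin n, j ≠ i → ∀ v w : Fin n → F, w j * f v (Pi.single i 1) + v j * f (Pi.single i 1) w = 0 := by
    intro j hj v w
    let g : GL (Fin n) F := Matrix.GeneralLinearGroup.mkOfDetNeZero (1 + Matrix.single i j 1) (by
      rw [← Matrix.transvection, Matrix.det_transvection_of_ne i j hj.symm]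
      exact one_ne_zero)
    have hg : g ∈ specialLinear (Fin n) F := by
      change Matrix.GeneralLinearGroup.det g = 1
      apply Units.ext
      change (1 + Matrix.single i j (1 : F)).det = 1
      rw [← Matrix.transvection, Matrix.det_transvection_of_ne i j hj.symm]
    have h1 := hP _ ⟨g, hg, rfl⟩ v w
    have h2 : ∀ v, (g : Matrix (Fin n) (Fin n) F) *ᵥ v = v + v j • Pi.single i 1 := by
      intro v
      change (1 + Matrix.single i j (1 : F)) *ᵥ v = _
      rw [Matrix.add_mulVec, Matrix.one_mulVec]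
      congr 1
      ext k
      by_cases hk : k = i
      · subst hk
        rw [Matrix.single_mulVec]
        simp
      · simp [hk, Matrix.single_mulVec]
    simp only [h2] at h1
    rw [hf.bilinear.add_left, hf.bilinear.add_right, hf.bilinear.add_right, hf.bilinear.smul_left,
      hf.bilinear.smul_right, hf.bilinear.smul_left, hf.bilinear.smul_right, hf.alternating] at h1
    linear_combination h1
  have hne : (Pi.single i 1 : Fin n → F) ≠ 0 := by
    intro h0
    have := congrFun h0 i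
    rw [Pi.single_eq_same] at this
    exact one_ne_zero this
  obtain ⟨⟨x, hx⟩, -⟩ := hf.nondegenerate _ hne
  apply hx
  have h0 : ∀ j : Fin n, j ≠ i → ∀ v : Fin n → F, v j = 0 → f v (Pi.single i 1) = 0 := by
    intro j hj v hv
    have h1 := key j hj v (Pi.single j 1)
    rw [hv, zero_mul, add_zero, Pi.single_eq_same, one_mul] at h1
    exact h1
  let j1 : Fin n := ⟨1, by omega⟩
  let j2 : Fin n := ⟨2, by omega⟩
  have h1 : f (Pi.single j1 1) (Pi.single i 1) = 0 :=
    h0 j2 (by simp [j2, i]) _ (by rw [Pi.single_eq_of_ne (by simp [j1, j2])])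
  have h2 : f (x - x j1 • Pi.single j1 1) (Pi.single i 1) = 0 :=
    h0 j1 (by simp [j1, i]) _ (by simp)
  have h3 : x = (x - x j1 • Pi.single j1 1) + x j1 • Pi.single j1 1 := by rw [sub_add_cancel]
  rw [h3, hf.bilinear.add_left, hf.bilinear.smul_left, h1, h2, mul_zero, add_zero]

theorem nd_plus (m : ℕ) (F : Type*) [Field F] : IsNondegenerateQuadraticForm (quadFormPlus m F) := by
  rw [← LieClassical.OrthForms.coe_plusForm]
  exact H925.isND_of_nondeg (LieClassical.OrthForms.nondeg_plusForm m F)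

theorem nd_minus (m : ℕ) (F : Type*) [Field F] [Finite F] (a b : F)
    (hab : ∀ z₁ z₂ : F, z₁ ^ 2 + a * z₁ * z₂ + b * z₂ ^ 2 = 0 → z₁ = 0 ∧ z₂ = 0) :
    IsNondegenerateQuadraticForm (quadFormMinus m F a b) := by
  rw [← LieClassical.OrthForms.coe_minusForm]
  exact H925.isND_of_nondeg (LieClassical.OrthForms.nondeg_minusForm m F a b hab)

theorem two_ne_of_odd {K : Type} [Field K] [Fintype K] (hodd : Odd (Fintype.card K)) : (2 : K) ≠ 0 := by
  intro h0
  haveI : CharP K 2 := CharTwo.of_one_ne_zero_of_two_eq_zero one_ne_zero h0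
  have h4 := FiniteField.cast_card_eq_zero K
  have h5 := (CharP.cast_eq_zero_iff K 2 _).1 h4
  exact (Nat.not_even_iff_odd.2 hodd) (even_iff_two_dvd.2 h5)

section core

variable [Finite F] {ι : Type} [Fintype ι] [DecidableEq ι] {P : Subgroup (GL ι F)} {p : ℕ} [hp : Fact p.Prime]
  [CharP F p]

include hp in
/-- `PSL₁₀` -/
theorem psl_ten (hC : Core P) (hA : FixA P) (hn : Fintype.card ι = 10) {K : Type} [Field K] [Fintype K] [CharP K p]
    (e : Soc P ≃* Matrix.ProjectiveSpecialLinearGroup (Fin 10) K) : False := by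
  have hC' := H912.Rx.core_re (Fintype.equivFinOfCardEq hn) hC
  have h1 := (H905.Md.psl_eq (l := 9) p hC'.absIrred hC'.perfect (by norm_num) (by norm_num)
    ((H912.Rx.socEquiv (Fintype.equivFinOfCardEq hn)).symm.trans e) hC'.no_subfield rfl).2
  have h2 := H912.Rx.fixA_re_of (Fintype.equivFinOfCardEq hn) hA
  rw [h1] at h2
  exact not_fixA_sl (by norm_num) h2

variable (p) in
include hp in
/-- `PSL(m, K)`, `m ≥ 3` -/
theorem row_psl (hC : Core P) (hA : FixA P) (hn : Fintype.card ι = 10) (K : Type) [Field K] [Fintype K] [CharP K p]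
    (m : ℕ) (hm : 3 ≤ m) (he : Nonempty (Soc P ≃* ProjectiveSpecialLinearGroup (Fin m) K)) : False := by
  have hSD := H912.Sp10.sd_of_fixA hA
  obtain ⟨e⟩ := he
  obtain ⟨l, rfl⟩ : ∃ l, m = l + 1 := ⟨m - 1, by omega⟩
  have h4 : l = 1 → 4 ≤ Nat.card K := fun h => by omega
  have hr := H905.Md.psl_rank p hC.absIrred hC.perfect (by omega) h4 e
  rcases (show l + 1 = 10 ∨ l + 1 < 10 by omega) with h10 | h10
  · obtain rfl : l = 9 := by omega
    exact psl_ten (p := p) hC hA hn e
  · have h7 := H887.DS.dim_cases p hC (m := l + 1) (by omega) (by omega) (by omega) e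
    rcases (show l = 2 ∨ l = 3 ∨ l = 4 by omega) with rfl | rfl | rfl
    · have h3 := (H911.Ad.sd_psl3 p hC hSD e (by omega)).2.2.1
      omega
    · have h3 := (H911.Ad.sd_psl4 p hC hSD e (by omega)).2.1
      omega
    · have h3 := (H887.DS.ten5 p hC e hn).2 0
      apply h3
      intro g hg
      rw [pow_zero, pow_one]
      exact (hSD g hg).symm

variable (p) in
include hp in
theorem row_psu (hC : Core P) (hA : FixA P) (hn : Fintype.card ι = 10) (K : Type) [Field K] [Fintype K] [CharP K p]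
    (N q : ℕ) (hK : Fintype.card K = q ^ 2) (hN : 3 ≤ N) (h32 : ¬ (N = 3 ∧ q = 2))
    (he : Nonempty (Soc P ≃* PSU N K q)) : False := by
  have hSD := H912.Sp10.sd_of_fixA hA
  obtain ⟨e⟩ := he
  rcases (show N = 3 ∨ 4 ≤ N by omega) with rfl | h4
  · have hq : 3 ≤ q := by
      have h1 : 1 < Fintype.card K := Fintype.one_lt_card
      rw [hK] at h1
      have h2 : q ≠ 0 := by rintro rfl; norm_num at h1
      have h3 : q ≠ 1 := by rintro rfl; norm_num at h1
      have h5 : q ≠ 2 := fun h => h32 ⟨rfl, h⟩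
      omega
    have h1 := H929.U3.core_psu3_sd p hC hq hK e (by omega) hSD
    omega
  · have h1 := (H911.UF.sd_psu p K h4 (by omega) hK hC hSD e).2.1
    omega

/-- **The own characteristic.** -/
theorem list (hC : Core P) (hA : FixA P) (hQ : ¬ FixQ P) (hn : Fintype.card ι = 10) (hL : IsLieTypeChar p (Soc P)) :
    (∃ (K : Type) (_ : Field K) (_ : Fintype K) (_ : CharP K p),
      Nonempty (Soc P ≃* ProjectiveSpecialLinearGroup (Fin 2) K)) ∨ CjOf (spGL 5 F) P := by
  have hs : IsSimpleGroup (Soc P) := hC.simple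
  have hlist := H905.Md.small_dc (p := p) hC.absIrred.1 hC.perfect hL (by omega)
  rw [hn] at hlist
  rcases hlist with ⟨K, i1, i2, i3, l, hl, h4, he⟩ | ⟨K, i1, i2, i3, m, hm, hm', h3, he⟩ |
    ⟨K, i1, i2, i3, N, q, hF, hN, -, hNq, he⟩ | ⟨h2, he⟩ | ⟨h3, he⟩ | ⟨K, i1, i2, i3, m, hm, hm', hodd, he⟩ |
    ⟨K, i1, i2, i3, m, hm, hm', he⟩ | ⟨K, i1, i2, i3, m, a, b, hm, hm', hab, he⟩ | ⟨-, K, i1, i2, i3, h3, he⟩ |
    ⟨-, K, i1, i2, i3, q, hq, hK, he⟩ | ⟨-, h2, he⟩
  · rcases (show l = 1 ∨ 3 ≤ l + 1 by omega) with rfl | h3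
    · exact Or.inl ⟨K, i1, i2, i3, he⟩
    · exact (row_psl p hC hA hn K (l + 1) h3 he).elim
  · obtain ⟨e⟩ := he
    rcases (show m = 2 ∨ m = 3 ∨ 4 ≤ m by omega) with rfl | rfl | h4
    · exfalso
      obtain ⟨-, -, h | h | h | h⟩ := H905.Sp4.core_psp4 p hC (by rw [Nat.card_eq_fintype_card]; exact h3 rfl) e
        (by omega)
      · omega
      · omega
      · exact h.2.2.2 hA
      · omega
    · exact (H924.D5.psp6_big p hC (by omega) (by omega) e).elim
    · obtain ⟨-, h1⟩ := psp (p := p) hC (by omega) h4 (by omega) e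
      have h5 := h1.card_eq
      rw [H937.T2.card_sum_fin, hn] at h5
      obtain rfl : m = 5 := by omega
      exact Or.inr h1
  · exact (row_psu p hC hA hn K N q hF hN hNq he).elim
  · exfalso
    subst h2
    obtain ⟨K, i1, i2, m, hm, hK, ⟨e⟩⟩ := he
    exact H861.SzN.sz_false hC hm hK e (by omega) (by omega)
  · exfalso
    subst h3
    obtain ⟨K, i1, i2, m, hm, hK, ⟨e⟩⟩ := he
    exact H708.ReeSix.ree_fixA_false hC hA hm hK e (by omega)
  · exfalso
    obtain ⟨e⟩ := he
    have h2 := two_ne_of_odd hodd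
    rcases (show m = 3 ∨ 4 ≤ m by omega) with rfl | h4
    · exact H924.D5.po7_big p hC (by omega) (by omega) h2 e
    · obtain ⟨-, h1⟩ := po_odd (p := p) hC (by omega) h4 (by omega) h2 e
      have h5 := h1.card_eq
      rw [Fintype.card_sum, Fintype.card_sum, Fintype.card_fin, Fintype.card_unit] at h5
      omega
  · exfalso
    obtain ⟨e⟩ := he
    rcases (show m = 4 ∨ 5 ≤ m by omega) with rfl | h4
    · have h5 := H924.D5.po8plus_card p hC (by omega) e
      omega
    · obtain ⟨-, h1⟩ := po_plus (p := p) hC (by omega) h4 (by omega) e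
      exact hQ (h1.fixQ (nd_plus m F))
  · exfalso
    obtain ⟨m, rfl⟩ : ∃ k, m = k + 1 := ⟨m - 1, by omega⟩
    obtain ⟨e⟩ := he
    rcases (show m = 3 ∨ 4 ≤ m by omega) with rfl | h4
    · have h5 := H924.D5.po8minus_card p hC (by omega) hab e
      omega
    · obtain ⟨τ, h1⟩ := po_minus (p := p) hC (by omega) h4 (by omega) hab e
      refine hQ (h1.fixQ (nd_minus m F _ _ fun z₁ z₂ hz => ?_))
      have h6 := hab (τ.symm z₁) (τ.symm z₂) (τ.injective (by
        simp only [map_add, map_mul, map_pow, RingEquiv.apply_symm_apply, map_zero]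
        exact hz))
      exact ⟨by simpa using congrArg τ h6.1, by simpa using congrArg τ h6.2⟩
  · exfalso
    obtain ⟨e⟩ := he
    have h1 := (H927.G2.core_g2 p hC (by rw [Nat.card_eq_fintype_card]; exact h3) e (by omega)).2.2.2.2
    omega
  · exfalso
    obtain ⟨e⟩ := he
    have h1 := (H392.TD.d4_small p hC hq hK e (by omega)).1
    omega
  · exfalso
    have h4 := H927.LDTwF4.card_le_iso h2 hC.perfect he
    omega

end core

/-- **The own characteristic, maximal subgroups of `Sp₁₀`.** -/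
theorem own [Fintype F] {p : ℕ} [hp : Fact p.Prime] [CharP F p] {H P : Subgroup (GL (Fin 5 ⊕ Fin 5) F)}
    (hH : IsMaximalIn (spGL 5 F) H) (hc : IsResidualCore H P) (hQ : ¬ FixQ P) (hL : IsLieTypeChar p (Soc P)) :
    Nonempty (Soc P ≃* ProjectiveSpecialLinearGroup (Fin 2) F) ∧ 11 ≤ p := by
  rcases list (p := p) (core_of_residual hc) (H937.T2.fixA_of_spGL hH hc) hQ (by simp) hL with
    ⟨K, _, _, _, ⟨e⟩⟩ | h
  · exact H875.PslRows.sp_ten p hH hc e
  · exact (h.not_maximal_sp hc hH).elim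

end Cfsg.Agent.H912.Sp10.Own
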