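import Cfsg.Agent.H912.Sp10.CrossAll
import Cfsg.Agent.H912.Sp10.Own

/-!
# S5845: the final assembly (helper912)

`row5845` : the conclusion of S5845 from the classification.
-/

set_option autoImplicit false
set_option linter.unusedSectionVars false

namespace Cfsg.Agent.H912.Sp10

open Cfsg Cfsg.Geo Matrix Cfsg.Agent.H936.List12 Cfsg.Agent.H912.Bd
open Cfsg.Agent.H915.LD

universe u

theorem row5845 {F : Type u} [Field F] [Fintype F]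
    (hk : ∀ (T : Type u) [Group T] [Finite T] [IsSimpleGroup T], IsKnownSimple' T)
    (H : Subgroup (GL (Fin 5 ⊕ Fin 5) F)) (hH : IsMaximalIn (spGL 5 F) H) (hS : InSymplecticResidualClass H) :
    ∃ (P : Subgroup (GL (Fin 5 ⊕ Fin 5) F)) (p : ℕ), IsResidualCore H P ∧ p.Prime ∧ CharP F p ∧
    ((Nonempty (Soc P ≃* alternatingGroup (Fin 6)) ∧ ((Fintype.card F = p ∧ (p % 16 = 1 ∨ p % 16 = 15 ∨ p % 16 = 7 ∨ p % 16 = 9)) ∨ (Fintype.card F = p ^ 2 ∧ p ≠ 3 ∧ (p % 8 = 3 ∨ p % 8 = 5)))) ∨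
     (Nonempty (Soc P ≃* ProjectiveSpecialLinearGroup (Fin 2) (ZMod 11)) ∧ ((Fintype.card F = p ∧ p ≠ 11 ∧ (p % 8 = 1 ∨ p % 8 = 7 ∨ p % 8 = 3 ∨ p % 8 = 5 ∨ p % 24 = 1 ∨ p % 24 = 23 ∨ p % 24 = 11 ∨ p % 24 = 13)) ∨ (Fintype.card F = p ^ 2 ∧ (p % 12 = 5 ∨ p % 12 = 7)))) ∨
     ((∃ (K : Type) (_ : Field K) (_ : Fintype K), Fintype.card K = 4 ∧ Nonempty (Soc P ≃* PSU 5 K 2)) ∧ Fintype.card F = p ∧ Odd p) ∨
     (Nonempty (Soc P ≃* ProjectiveSpecialLinearGroup (Fin 2) F) ∧ 11 ≤ p)) := by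
  obtain ⟨P, hc, hQ, -⟩ := hS
  obtain ⟨p, hch⟩ := CharP.exists F
  have hp : p.Prime := CharP.char_is_prime F p
  have hpf := Fact.mk hp
  refine ⟨P, p, hc, hp, hch, ?_⟩
  have hQ' : ¬ FixQ P := hQ
  by_cases hL : IsLieTypeChar p (Soc P)
  · exact Or.inr (Or.inr (Or.inr (Own.own hH hc hQ' hL)))
  · have hC := core_of_residual hc
    have hA := H937.T2.fixA_of_spGL hH hc
    let e10 : Fin 5 ⊕ Fin 5 ≃ Fin 10 := finSumFinEquiv
    let s : Soc P ≃* Soc (H912.Rx.re e10 P) := H912.Rx.socEquiv e10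
    have hC' := H912.Rx.core_re e10 hC
    have hs' : IsSimpleGroup (Soc (H912.Rx.re e10 P)) := hC'.simple
    rcases cross_all (p := p) hC' (H912.Rx.fixA_re_of e10 hA) (fun h => hQ' ((H912.Rx.fixQ_re e10).1 h))
      (hk (Soc (H912.Rx.re e10 P))) (fun h => hL (OddHalf.Known.isLieTypeChar_congr s.symm h)) with
      ⟨⟨e⟩⟩ | ⟨⟨e⟩, hp2, hp11, hF⟩ | ⟨⟨K, i1, i2, hK, ⟨e⟩⟩, hp2, hF⟩
    · exact Or.inl ⟨⟨s.trans e⟩, H937.T2.sp_ten_a6 p hH hc (s.trans e)⟩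
    · refine Or.inr (Or.inl ⟨⟨s.trans e⟩, ?_⟩)
      rw [Nat.card_eq_fintype_card] at hF
      rcases hF with hF | hF
      · refine Or.inl ⟨hF, hp11, ?_⟩
        have h1 := hp.eq_two_or_odd
        omega
      · exact Or.inr hF
    · refine Or.inr (Or.inr (Or.inl ⟨⟨K, i1, i2, by rw [hK]; norm_num, ⟨s.trans e⟩⟩, ?_, hp.odd_of_ne_two hp2⟩))
      rw [← Nat.card_eq_fintype_card, hF]

end Cfsg.Agent.H912.Sp10
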