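import Cfsg.Agent.H912.Sp10.SRep
import Cfsg.Agent.H908.TenSeven
import Cfsg.Agent.H637.A7Cov

/-!
# `A₇` and `2.A₇` have no self-dual representation of degree ten if `p ≠ 7` (helper912)

* `caseA` : `A₇`, by Scott's lemma for a triple `(2A, 7, 7)`;
* `caseB` : `2.A₇`: `x` of order seven, `n² = -1` in the cover of `L₂(7)`, `e` the projection on `V^x`:
  `e n⁻¹ (e_ψ + e_ψ⁻¹) n e = (2 / 7) e`, of rank `4 ≤ 2`.
-/

set_option autoImplicit false
set_option linter.unusedSectionVars false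

namespace Cfsg.Agent.H912.Sp10

open Cfsg Cfsg.Geo Module Equiv Equiv.Perm
open Matrix hiding mul_apply'
open Cfsg.Agent.H637.JW Cfsg.Agent.H908.Ten Cfsg.Agent.H637.SevenA7

universe u v w

section caseA

variable {K : Type u} [Field K] [IsAlgClosed K] {V : Type v} [AddCommGroup V] [Module K V] [FiniteDimensional K V]

theorem d1_y : d1⁻¹ * y1 * d1 = y1 ^ 2 ∨ d1 * y1 * d1⁻¹ = y1 ^ 2 := by decide +kernel
theorem e1_y : e1⁻¹ * (x1 * y1) * e1 = (x1 * y1) ^ 2 ∨ e1 * (x1 * y1) * e1⁻¹ = (x1 * y1) ^ 2 := by decide +kernel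
theorem y1_pow : y1 ^ 7 = 1 := by decide +kernel
theorem xy1_pow : (x1 * y1) ^ 7 = 1 := by decide +kernel
theorem y1_ne : y1 ≠ 1 := by decide +kernel
theorem xy1_ne : x1 * y1 ≠ 1 := by decide +kernel

theorem exists_d {G : Type*} [Group G] {x d : G} (h : d⁻¹ * x * d = x ^ 2 ∨ d * x * d⁻¹ = x ^ 2) :
    ∃ d : G, d⁻¹ * x * d = x ^ 2 := by
  rcases h with h | h
  · exact ⟨d, h⟩
  · exact ⟨d⁻¹, by rwa [inv_inv]⟩

theorem caseA (h : SR K V A7) (hinj : Function.Injective h.σ) (hV : finrank K V = 10) (h7 : (7 : K) ≠ 0) : False := by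
  have h7' : ((7 : ℕ) : K) ≠ 0 := by exact_mod_cast h7
  obtain ⟨ζ, hζ⟩ := exists_root (K := K) (N := 7) h7'
  have hne : ∀ {x : A7}, x ≠ 1 → h.σ x ≠ 1 := fun hx h0 => hx (hinj (by rw [h0, map_one]))
  obtain ⟨d, hd⟩ := exists_d d1_y
  obtain ⟨e, he⟩ := exists_d e1_y
  have e1 := (h.dim7 hV h7 y1_pow (hne y1_ne) hd hζ).1
  have e2 := (h.dim7 hV h7 xy1_pow (hne xy1_ne) he hζ).1
  have hsc := h.scott (x := x1) (y := y1) (fun v hv1 hv2 => by
    refine h.eq_zero_of_fixed (by rw [hV]; norm_num) fun g => ?_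
    let S : Subgroup A7 :=
      { carrier := {g | h.σ g v = v}
        mul_mem' := fun {a b} ha hb => by
          change h.σ (a * b) v = v
          rw [mul_apply', show h.σ b v = v from hb]
          exact ha
        one_mem' := by
          change h.σ 1 v = v
          rw [map_one, Module.End.one_apply]
        inv_mem' := fun {a} ha => by
          change h.σ a⁻¹ v = v
          have h1 : h.σ a v = v := ha
          conv_lhs => rw [← h1]
          rw [← mul_apply', inv_mul_cancel, map_one, Module.End.one_apply] }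
    have h1 : S = ⊤ := gen1 S hv1 hv2
    have h2 : g ∈ S := by rw [h1]; trivial
    exact h2)
  rw [hV, e1, e2] at hsc
  have hs : h.d s = h.d x1 := h.d_conj cj_x1
  by_cases h2 : (2 : K) = 0
  · have := h.d_two h2 (x := x1) (by decide +kernel)
    omega
  · have hk := klein3 (σ := h.σ) h2 s_sq t_sq s_t a_s' a_t' (U := ⊤) (fun _ _ => trivial) (fun _ _ => trivial)
      (fun _ _ => trivial)
    have h3 : finrank K (⊤ ⊓ Fix h.σ s : Submodule K V) = h.d s := by
      rw [top_inf_eq]; rfl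
    rw [finrank_top, h3, hV] at hk
    omega

end caseA

section caseB

/-- the element of order seven -/
def bx : A7 := mk (swap 0 1 * swap 1 2 * swap 2 3 * swap 3 4 * swap 4 5 * swap 5 6)
/-- the element of order three -/
def bt : A7 := mk (swap 1 2 * swap 2 4 * (swap 3 6 * swap 6 5))
/-- the involution -/
def bn : A7 := mk (swap 1 4 * swap 5 6)

theorem bx_pow : bx ^ 7 = 1 := by decide +kernel
theorem bx_ne : bx ≠ 1 := by decide +kernel
theorem bt_pow : bt ^ 3 = 1 := by decide +kernel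
theorem bn_sq : bn * bn = 1 := by decide +kernel
theorem bn_ne : bn ≠ 1 := by decide +kernel
theorem bt_bx : bt * bx * bt⁻¹ = bx ^ 2 := by decide +kernel
theorem bw_sq1 : (bt ^ 1 * bn) * (bt ^ 1 * bn) = 1 := by decide +kernel
theorem bw_ne1 : bt ^ 1 * bn ≠ 1 := by decide +kernel
theorem bw_sq2 : (bt ^ 2 * bn) * (bt ^ 2 * bn) = 1 := by decide +kernel
theorem bw_ne2 : bt ^ 2 * bn ≠ 1 := by decide +kernel
theorem rel1 : bn * bx ^ 1 * bn = bx ^ 6 * (bt ^ 0 * bn) * bx ^ 6 := by decide +kernel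
theorem rel2 : bn * bx ^ 2 * bn = bx ^ 3 * (bt ^ 1 * bn) * bx ^ 3 := by decide +kernel
theorem rel3 : bn * bx ^ 3 * bn = bx ^ 2 * (bt ^ 2 * bn) * bx ^ 2 := by decide +kernel


open Cfsg.Agent.H637.A7Cov

variable {K : Type u} [Field K] [IsAlgClosed K] {V : Type v} [AddCommGroup V] [Module K V] [FiniteDimensional K V]
variable {D : Type w} [Group D]

/-- the relations in the cover -/
structure Rl (x n z w : D) (c i : ℕ) (ε : D) : Prop where
  x7 : x ^ 7 = 1
  nn : n * n = z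
  ww : w * w = z
  zz : z * z = 1
  zc : ∀ d, z * d = d * z
  ε1 : ε = 1 ∨ ε = z
  rel : n * x ^ c * n = ε * (x ^ i * w * x ^ i)

theorem inv_of_sq {n z : D} (hn : n * n = z) (hz : z * z = 1) (hc : ∀ d, z * d = d * z) : n⁻¹ = z * n := by
  rw [inv_eq_iff_mul_eq_one, ← mul_assoc, ← hc, mul_assoc, hn, hz]

theorem Rl.rel' {x n z w ε : D} {c i : ℕ} (H : Rl x n z w c i ε) :
    n * (x ^ c)⁻¹ * n = z * (ε * ((x ^ i)⁻¹ * w * (x ^ i)⁻¹)) := by
  have h1 : (n * x ^ c * n)⁻¹ = n * (x ^ c)⁻¹ * n := by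
    rw [_root_.mul_inv_rev, _root_.mul_inv_rev, inv_of_sq H.nn H.zz H.zc]
    calc z * n * ((x ^ c)⁻¹ * (z * n)) = z * n * ((x ^ c)⁻¹ * z) * n := by simp only [mul_assoc]
      _ = z * n * (z * (x ^ c)⁻¹) * n := by rw [H.zc (x ^ c)⁻¹]
      _ = z * (n * z) * (x ^ c)⁻¹ * n := by simp only [mul_assoc]
      _ = z * (z * n) * (x ^ c)⁻¹ * n := by rw [H.zc n]
      _ = (z * z) * (n * (x ^ c)⁻¹ * n) := by simp only [mul_assoc]
      _ = _ := by rw [H.zz, one_mul]
  have hε : ε⁻¹ = ε := by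
    rcases H.ε1 with h | h
    · rw [h, inv_one]
    · rw [h]
      exact inv_eq_of_mul_eq_one_left H.zz
  have hεc : ∀ d, d * ε = ε * d := by
    intro d
    rcases H.ε1 with h | h
    · rw [h, one_mul, mul_one]
    · rw [h, H.zc]
  rw [← h1, H.rel, _root_.mul_inv_rev, _root_.mul_inv_rev, _root_.mul_inv_rev, hε, inv_of_sq H.ww H.zz H.zc, hεc]
  calc ε * ((x ^ i)⁻¹ * (z * w * (x ^ i)⁻¹)) = ε * (((x ^ i)⁻¹ * z) * w * (x ^ i)⁻¹) := by simp only [mul_assoc]
    _ = ε * ((z * (x ^ i)⁻¹) * w * (x ^ i)⁻¹) := by rw [H.zc (x ^ i)⁻¹]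
    _ = (ε * z) * ((x ^ i)⁻¹ * w * (x ^ i)⁻¹) := by simp only [mul_assoc]
    _ = (z * ε) * ((x ^ i)⁻¹ * w * (x ^ i)⁻¹) := by rw [H.zc ε]
    _ = _ := by rw [mul_assoc]

/-- the projection onto the fixed space -/
noncomputable def pj (σ : D →* Module.End K V) (x : D) : Module.End K V := (7 : K)⁻¹ • ∑ i ∈ Finset.range 7, σ (x ^ i)

theorem pj_mul (σ : D →* Module.End K V) {x : D} (hx : x ^ 7 = 1) : pj σ x * σ x = pj σ x := by
  rw [pj, smul_mul_assoc, Finset.sum_mul]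
  congr 1
  have h1 : ∀ i, σ (x ^ i) * σ x = σ (x ^ (i + 1)) := fun i => by rw [← map_mul, pow_succ]
  simp only [h1]
  have h3 := Finset.sum_range_succ (fun k => σ (x ^ k)) 7
  rw [Finset.sum_range_succ', hx, pow_zero] at h3
  exact add_right_cancel h3

theorem pj_mul_pow (σ : D →* Module.End K V) {x : D} (hx : x ^ 7 = 1) (j : ℕ) : pj σ x * σ (x ^ j) = pj σ x := by
  induction j with
  | zero => rw [pow_zero, map_one, mul_one]
  | succ j ih => rw [pow_succ, map_mul, ← mul_assoc, ih, pj_mul σ hx]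

theorem pj_fix (σ : D →* Module.End K V) (h7 : (7 : K) ≠ 0) {x : D} {v : V} (hv : σ x v = v) : pj σ x v = v := by
  rw [pj, LinearMap.smul_apply, LinearMap.sum_apply]
  have h1 : ∀ k, σ (x ^ k) v = v := by
    intro k
    induction k with
    | zero => rw [pow_zero, map_one, Module.End.one_apply]
    | succ k ih => rw [pow_succ', mul_apply', ih]; exact hv
  simp only [h1]
  rw [Finset.sum_const, Finset.card_range, ← Nat.cast_smul_eq_nsmul K, smul_smul]
  have : (((7 : ℕ) : K)) = 7 := by norm_cast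
  rw [this, inv_mul_cancel₀ h7, one_smul]

theorem fix_pow {σ : D →* Module.End K V} {x : D} {v : V} (hv : σ x v = v) (k : ℕ) : σ (x ^ k) v = v := by
  induction k with
  | zero => rw [pow_zero, map_one, Module.End.one_apply]
  | succ k ih => rw [pow_succ', mul_apply', ih]; exact hv

theorem fix_inv {σ : D →* Module.End K V} {x : D} {v : V} (hv : σ x v = v) : σ x⁻¹ v = v := by
  conv_lhs => rw [← hv]
  rw [← mul_apply', inv_mul_cancel, map_one, Module.End.one_apply]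

/-- **The two contributions cancel.** -/
theorem cancel {σ : D →* Module.End K V} {x n z w ε : D} {c i : ℕ} (H : Rl x n z w c i ε) (hz : σ z = -1) (hc : c ≤ 7)
    {v : V} (hv : σ x v = v) :
    pj σ x (σ (n * x ^ c * n) v) + pj σ x (σ (n * x ^ (7 - c) * n) v) = 0 := by
  have h1 : x ^ (7 - c) = (x ^ c)⁻¹ := by
    rw [eq_inv_iff_mul_eq_one, ← pow_add, Nat.sub_add_cancel hc, H.x7]
  obtain ⟨s, hs⟩ : ∃ s : K, σ ε = s • 1 := by
    rcases H.ε1 with h | h
    · exact ⟨1, by rw [h, map_one, one_smul]⟩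
    · exact ⟨-1, by rw [h, hz, neg_one_smul]⟩
  have e1 : pj σ x (σ (n * x ^ c * n) v) = s • pj σ x (σ w v) := by
    rw [H.rel, mul_apply', hs, LinearMap.smul_apply, Module.End.one_apply, map_smul, mul_apply', fix_pow hv, mul_apply',
      ← Module.End.mul_apply, pj_mul_pow σ H.x7]
  have h2 : (x ^ i)⁻¹ = x ^ (6 * i) := by
    rw [eq_comm, eq_inv_iff_mul_eq_one, ← pow_add, show 6 * i + i = 7 * i by ring, pow_mul, H.x7, one_pow]
  have e2 : pj σ x (σ (n * x ^ (7 - c) * n) v) = -(s • pj σ x (σ w v)) := by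
    rw [h1, H.rel', mul_apply', hz, LinearMap.neg_apply, Module.End.one_apply, map_neg, mul_apply', hs,
      LinearMap.smul_apply, Module.End.one_apply, map_smul, h2, mul_apply', fix_pow hv, mul_apply',
      ← Module.End.mul_apply, pj_mul_pow σ H.x7]
  rw [e1, e2, add_neg_cancel]


/-- the sum with coefficients `ζ ^ (m c)` -/
noncomputable def ps (σ : D →* Module.End K V) (x : D) (ζ : K) (m : ℕ) : Module.End K V :=
  ∑ c ∈ Finset.range 7, ζ ^ (m * c) • σ (x ^ c)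

theorem ps_apply (σ : D →* Module.End K V) (x : D) (ζ : K) (m : ℕ) (v : V) :
    ps σ x ζ m v = ∑ c ∈ Finset.range 7, ζ ^ (m * c) • σ (x ^ c) v := by
  rw [ps, LinearMap.sum_apply]
  rfl

theorem ps_mem (σ : D →* Module.End K V) {x : D} (hx : x ^ 7 = 1) {ζ : K} (hζ : ζ ^ 7 = 1) (m m' : ℕ)
    (hm : (m + m') % 7 = 0) (v : V) : ps σ x ζ m v ∈ (σ x).eigenspace (ζ ^ m') := by
  rw [Module.End.mem_eigenspace_iff, ps_apply, map_sum]
  have h1 : ∀ c, σ x (ζ ^ (m * c) • σ (x ^ c) v) = ζ ^ m' • (ζ ^ (m * (c + 1)) • σ (x ^ (c + 1)) v) := by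
    intro c
    rw [map_smul, ← mul_apply', ← pow_succ', smul_smul, ← pow_add]
    congr 1
    obtain ⟨q, hq⟩ : ∃ q, m + m' = 7 * q := ⟨(m + m') / 7, by omega⟩
    have h2 : m' + m * (c + 1) = 7 * q + m * c := by rw [← hq]; ring
    rw [h2, pow_add, pow_mul ζ 7 q, hζ, one_pow, one_mul]
  simp only [h1]
  rw [← Finset.smul_sum]
  congr 1
  have h3 := Finset.sum_range_succ (fun k => ζ ^ (m * k) • σ (x ^ k) v) 7
  rw [Finset.sum_range_succ', hx, pow_zero, mul_zero, pow_zero] at h3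
  have h4 : ζ ^ (m * 7) = 1 := by rw [mul_comm, pow_mul, hζ, one_pow]
  rw [h4] at h3
  exact add_right_cancel h3

/-- **The key identity.** -/
theorem key {σ : D →* Module.End K V} {x n z : D} (hz : σ z = -1) (hn : n * n = z) (h7 : (7 : K) ≠ 0)
    (hcan : ∀ c, 1 ≤ c → c ≤ 3 → ∀ v, σ x v = v →
      pj σ x (σ (n * x ^ c * n) v) + pj σ x (σ (n * x ^ (7 - c) * n) v) = 0) {ζ : K} (hζ : ζ ^ 7 = 1)
    {v : V} (hv : σ x v = v) :
    pj σ x (σ n (ps σ x ζ 1 (σ n v) + ps σ x ζ 6 (σ n v))) = -((2 : K) • v) := by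
  have h1 : ∀ m, pj σ x (σ n (ps σ x ζ m (σ n v))) =
      ∑ c ∈ Finset.range 7, ζ ^ (m * c) • pj σ x (σ (n * x ^ c * n) v) := by
    intro m
    rw [ps_apply, map_sum, map_sum]
    refine Finset.sum_congr rfl fun c _ => ?_
    rw [map_smul, map_smul, mul_apply', mul_apply']
  rw [map_add, map_add, h1, h1]
  simp only [Finset.sum_range_succ, Finset.sum_range_zero, zero_add, pow_zero, mul_zero, mul_one, one_mul, one_smul]
  have e0 : pj σ x (σ (n * n) v) = -v := by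
    rw [hn, hz, LinearMap.neg_apply, Module.End.one_apply, map_neg, pj_fix σ h7 hv]
  have c1 : pj σ x (σ (n * x ^ 1 * n) v) + pj σ x (σ (n * x ^ 6 * n) v) = 0 := hcan 1 le_rfl (by norm_num) v hv
  have c2 : pj σ x (σ (n * x ^ 2 * n) v) + pj σ x (σ (n * x ^ 5 * n) v) = 0 := hcan 2 (by norm_num) (by norm_num) v hv
  have c3 : pj σ x (σ (n * x ^ 3 * n) v) + pj σ x (σ (n * x ^ 4 * n) v) = 0 := hcan 3 (by norm_num) le_rfl v hv
  set w1 := pj σ x (σ (n * x ^ 1 * n) v)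
  set w2 := pj σ x (σ (n * x ^ 2 * n) v)
  set w3 := pj σ x (σ (n * x ^ 3 * n) v)
  set w4 := pj σ x (σ (n * x ^ 4 * n) v)
  set w5 := pj σ x (σ (n * x ^ 5 * n) v)
  set w6 := pj σ x (σ (n * x ^ 6 * n) v)
  have d1 : w6 = -w1 := eq_neg_of_add_eq_zero_right c1
  have d2 : w5 = -w2 := eq_neg_of_add_eq_zero_right c2
  have d3 : w4 = -w3 := eq_neg_of_add_eq_zero_right c3
  have r : ∀ k j, k % 7 = j → ζ ^ k = ζ ^ j := by
    intro k j hkj
    rw [← hkj, pow_mod_of_pow_eq_one hζ]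
  rw [d1, d2, d3, e0]
  rw [r (6 * 2) 5 (by norm_num), r (6 * 3) 4 (by norm_num), r (6 * 4) 3 (by norm_num), r (6 * 5) 2 (by norm_num),
    r (6 * 6) 1 (by norm_num), two_smul]
  module

/-- **`2.A₇`.** -/
theorem caseB {π : D →* A7} {g : Fin 5 → D} {z : D} (H : Good π g z) (h : SR K V D) (hz : h.σ z = -1)
    (hV : finrank K V = 10) (h7 : (7 : K) ≠ 0) (h2 : (2 : K) ≠ 0) : False := by
  have h7' : ((7 : ℕ) : K) ≠ 0 := by exact_mod_cast h7
  obtain ⟨ζ, hζ⟩ := exists_root (K := K) (N := 7) h7'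
  have hV0 : Nontrivial V := Module.nontrivial_of_finrank_pos (R := K) (by rw [hV]; norm_num)
  have hz1 : z ≠ 1 := by
    intro h0
    rw [h0, map_one] at hz
    obtain ⟨v, hv⟩ := exists_ne (0 : V)
    have h1 := LinearMap.congr_fun hz v
    rw [Module.End.one_apply, LinearMap.neg_apply, Module.End.one_apply] at h1
    have h3 : (2 : K) • v = 0 := by
      rw [two_smul]
      nth_rewrite 1 [h1]
      exact neg_add_cancel v
    exact hv ((smul_eq_zero.1 h3).resolve_left h2)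
  have zpow : ∀ k, z ^ (2 * k) = 1 := fun k => by rw [pow_mul, pow_two, H.zz, one_pow]
  -- the lifts
  obtain ⟨x0, hx0⟩ := H.surj bx
  obtain ⟨t0, ht0⟩ := H.surj bt
  obtain ⟨n, hn0⟩ := H.surj bn
  obtain ⟨x, hx, hx7⟩ : ∃ x, π x = bx ∧ x ^ 7 = 1 := by
    refine ⟨x0 ^ 8, by rw [map_pow, hx0, pow_succ, bx_pow, one_mul], ?_⟩
    rcases H.ker (x0 ^ 7) (by rw [map_pow, hx0, bx_pow]) with h1 | h1
    · rw [← pow_mul, mul_comm, pow_mul, h1, one_pow]
    · rw [← pow_mul, mul_comm, pow_mul, h1]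
      exact zpow 4
  obtain ⟨t, ht, ht3⟩ : ∃ t, π t = bt ∧ t ^ 3 = 1 := by
    refine ⟨t0 ^ 4, by rw [map_pow, ht0, pow_succ, bt_pow, one_mul], ?_⟩
    rcases H.ker (t0 ^ 3) (by rw [map_pow, ht0, bt_pow]) with h1 | h1
    · rw [← pow_mul, mul_comm, pow_mul, h1, one_pow]
    · rw [← pow_mul, mul_comm, pow_mul, h1]
      exact zpow 2
  have hnn : n * n = z := H.sq_eq (by rw [hn0]; exact bn_sq) (by rw [hn0]; exact bn_ne)
  have htx : (t⁻¹)⁻¹ * x * t⁻¹ = x ^ 2 := by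
    rw [inv_inv]
    rcases H.eq_or (a := t * x * t⁻¹) (b := x ^ 2) (by
      rw [map_mul, map_mul, map_inv, map_pow, ht, hx, bt_bx]) with h1 | h1
    · exact h1
    · exfalso
      apply hz1
      have h3 : (t * x * t⁻¹) ^ 7 = 1 := by rw [conj_pow, hx7, mul_one, mul_inv_cancel]
      have hcm : Commute z (x ^ 2) := H.zc _
      rw [h1, hcm.mul_pow, ← pow_mul, mul_comm 2 7, pow_mul, hx7, one_pow, mul_one] at h3
      have h4 : z ^ 7 = z := by
        rw [show 7 = 2 * 3 + 1 from rfl, pow_succ, zpow, one_mul]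
      rwa [h4] at h3
  have zc := H.zc
  have rl : ∀ c i k, bn * bx ^ c * bn = bx ^ i * (bt ^ k * bn) * bx ^ i → (bt ^ k * bn) * (bt ^ k * bn) = 1 →
      bt ^ k * bn ≠ 1 → ∃ ε, Rl x n z (t ^ k * n) c i ε := by
    intro c i k hr h1 h3
    have hw : π (t ^ k * n) = bt ^ k * bn := by rw [map_mul, map_pow, ht, hn0]
    have hww : (t ^ k * n) * (t ^ k * n) = z := H.sq_eq (by rw [hw, h1]) (by rw [hw]; exact h3)
    rcases H.eq_or (a := n * x ^ c * n) (b := x ^ i * (t ^ k * n) * x ^ i) (by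
      rw [map_mul, map_mul, map_mul, map_mul, hw, map_pow, map_pow, hn0, hx, hr]) with h4 | h4
    · exact ⟨1, hx7, hnn, hww, H.zz, zc, Or.inl rfl, by rw [h4, one_mul]⟩
    · exact ⟨z, hx7, hnn, hww, H.zz, zc, Or.inr rfl, h4⟩
  have hcan : ∀ c, 1 ≤ c → c ≤ 3 → ∀ v, h.σ x v = v →
      pj h.σ x (h.σ (n * x ^ c * n) v) + pj h.σ x (h.σ (n * x ^ (7 - c) * n) v) = 0 := by
    intro c hc1 hc3 v hv
    rcases (show c = 1 ∨ c = 2 ∨ c = 3 by omega) with rfl | rfl | rfl
    · obtain ⟨ε, hR⟩ := rl 1 6 0 rel1 (by rw [pow_zero, one_mul]; exact bn_sq) (by rw [pow_zero, one_mul]; exact bn_ne)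
      exact cancel hR hz (by norm_num) hv
    · obtain ⟨ε, hR⟩ := rl 2 3 1 rel2 bw_sq1 bw_ne1
      exact cancel hR hz (by norm_num) hv
    · obtain ⟨ε, hR⟩ := rl 3 2 2 rel3 bw_sq2 bw_ne2
      exact cancel hR hz (by norm_num) hv
  have hkey := fun {v : V} (hv : h.σ x v = v) => key hz hnn h7 hcan hζ.pow_eq_one hv
  have hσx : h.σ x ≠ 1 := by
    intro h0
    obtain ⟨ε, hR⟩ := rl 1 6 0 rel1 (by rw [pow_zero, one_mul]; exact bn_sq) (by rw [pow_zero, one_mul]; exact bn_ne)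
    obtain ⟨v, hv⟩ := exists_ne (0 : V)
    have hx1 : ∀ v, h.σ x v = v := fun v => by rw [h0, Module.End.one_apply]
    have h1 := hcan 1 le_rfl (by norm_num) v (hx1 v)
    have h3 : ∀ k, h.σ (n * x ^ k * n) v = -v := by
      intro k
      rw [map_mul, map_mul, map_pow, h0, one_pow, mul_one, ← map_mul, hnn, hz, LinearMap.neg_apply,
        Module.End.one_apply]
    rw [h3, h3, map_neg, pj_fix h.σ h7 (hx1 v)] at h1
    have h4 : (2 : K) • v = 0 := by
      rw [two_smul]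
      have h5 := congrArg Neg.neg h1
      rw [neg_add, neg_neg, neg_zero] at h5
      exact h5
    exact hv ((smul_eq_zero.1 h4).resolve_left h2)
  obtain ⟨hd4, hE1, hE6⟩ := h.dim7 hV h7 hx7 hσx htx hζ
  -- the injection
  let f : Fix h.σ x →ₗ[K] ((h.σ x).eigenspace (ζ ^ 6)) × ((h.σ x).eigenspace ζ) :=
    (LinearMap.codRestrict _ ((ps h.σ x ζ 1).comp ((h.σ n).comp (Submodule.subtype _)))
      (fun v => ps_mem h.σ hx7 hζ.pow_eq_one 1 6 (by norm_num) _)).prod
    (LinearMap.codRestrict _ ((ps h.σ x ζ 6).comp ((h.σ n).comp (Submodule.subtype _)))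
      (fun v => by
        have := ps_mem h.σ hx7 hζ.pow_eq_one 6 1 (by norm_num) (h.σ n v)
        rwa [pow_one] at this))
  have hf : Function.Injective f := by
    refine (injective_iff_map_eq_zero f).2 fun v hv => ?_
    have h1 : ps h.σ x ζ 1 (h.σ n v) = 0 := congrArg (fun w => (w.1 : V)) hv
    have h3 : ps h.σ x ζ 6 (h.σ n v) = 0 := congrArg (fun w => (w.2 : V)) hv
    have h4 := hkey (mem_Fix.1 v.2)
    rw [h1, h3, add_zero, map_zero, map_zero, eq_comm, neg_eq_zero] at h4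
    exact Subtype.ext ((smul_eq_zero.1 h4).resolve_left h2)
  have h1 := LinearMap.finrank_le_finrank_of_injective hf
  rw [Module.finrank_prod, hE1, hE6] at h1
  have h3 : finrank K (Fix h.σ x) = 4 := hd4
  omega

end caseB

end Cfsg.Agent.H912.Sp10
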