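import Cfsg.Agent.H871.Par1

/-!
# Fixed spaces in symplectic representations (helper912)

* `even_fix` : the fixed space of a commuting set of elements of order prime to the characteristic has even dimension;
* `no_ten` : degree ten, an element `g` of order four conjugate to `-g` whose square lies in a four-group with conjugate
  involutions: impossible.
-/

set_option autoImplicit false
set_option linter.unusedSectionVars false

namespace Cfsg.Agent.H912.Sp10

open Module Cfsg.Agent.H912.Bd Cfsg.Agent.H871.Par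

section

variable {K : Type*} [Field K] {V : Type*} [AddCommGroup V] [Module K V] {L : Type*} [Group L]
  [FiniteDimensional K V] (ρ : L →* Module.End K V)

/-- the vectors fixed by a set -/
def FixS (S : Set L) : Submodule K V where
  carrier := {v | ∀ x ∈ S, ρ x v = v}
  add_mem' := fun ha hb x hx => by rw [map_add, ha x hx, hb x hx]
  zero_mem' := fun x _ => map_zero _
  smul_mem' := fun c a ha x hx => by rw [map_smul, ha x hx]

omit [FiniteDimensional K V] in
theorem mem_FixS {S : Set L} {v : V} : v ∈ FixS ρ S ↔ ∀ x ∈ S, ρ x v = v := Iff.rfl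

theorem closure_comm {S : Set L} (hS : ∀ x ∈ S, ∀ y ∈ S, x * y = y * x) :
    ∀ a ∈ Subgroup.closure S, ∀ b ∈ Subgroup.closure S, a * b = b * a := by
  have h1 : Subgroup.closure S ≤ Subgroup.centralizer S := by
    rw [Subgroup.closure_le]
    intro x hx
    rw [SetLike.mem_coe, Subgroup.mem_centralizer_iff]
    intro y hy
    exact hS y hy x hx
  have h2 : Subgroup.closure S ≤ Subgroup.centralizer (Subgroup.closure S : Set L) := by
    rw [Subgroup.closure_le]
    intro x hx
    rw [SetLike.mem_coe, Subgroup.mem_centralizer_iff]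
    intro y hy
    exact ((Subgroup.mem_centralizer_iff.1 (h1 hy)) x hx).symm
  intro a ha b hb
  exact (Subgroup.mem_centralizer_iff.1 (h2 hb)) a ha

theorem even_fix [IsAlgClosed K] (B : LinearMap.BilinForm K V) (hnd : ∀ u, (∀ v, B u v = 0) → u = 0)
    (hinv : ∀ g u v, B (ρ g u) (ρ g v) = B u v) (hAlt : B.IsAlt) {N : ℕ} (hN : (N : K) ≠ 0) {S : Set L}
    (hS : ∀ x ∈ S, ∀ y ∈ S, x * y = y * x) (hSN : ∀ x ∈ S, x ^ N = 1) : Even (finrank K (FixS ρ S)) := by
  have hA := closure_comm hS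
  have hAN : ∀ a ∈ Subgroup.closure S, a ^ N = 1 := by
    intro a ha
    induction ha using Subgroup.closure_induction with
    | mem x hx => exact hSN x hx
    | one => exact one_pow _
    | mul x y hx hy h1 h2 =>
      have hc : Commute x y := hA x hx y hy
      rw [hc.mul_pow, h1, h2, one_mul]
    | inv x _ h1 => rw [inv_pow, h1, inv_one]
  have h1 := even_wt ρ hA hN hAN B hnd hinv hAlt (χ := fun _ => 1) (fun _ => one_mul 1)
  have h2 : wt ρ (Subgroup.closure S) (fun _ => 1) = FixS ρ S := by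
    ext v
    rw [mem_wt, mem_FixS]
    constructor
    · intro h x hx
      have := h ⟨x, Subgroup.subset_closure hx⟩
      rwa [one_smul] at this
    · rintro h ⟨a, ha⟩
      rw [one_smul]
      change ρ a v = v
      induction ha using Subgroup.closure_induction with
      | mem x hx => exact h x hx
      | one => rw [map_one]; rfl
      | mul x y _ _ h1 h2 => rw [map_mul, Module.End.mul_apply, h2, h1]
      | inv x _ h1 =>
        have h3 := congrArg (ρ x⁻¹) h1
        rw [← Module.End.mul_apply, ← map_mul, inv_mul_cancel, map_one, Module.End.one_apply] at h3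
        exact h3.symm
  rwa [h2] at h1

end

section

variable {K : Type*} [Field K] {V : Type*} [AddCommGroup V] [Module K V]

/-- eigenvectors in a submodule -/
def Eg (S : Submodule K V) (r : Module.End K V) (μ : K) : Submodule K V where
  carrier := {v | v ∈ S ∧ r v = μ • v}
  add_mem' := fun ha hb => ⟨S.add_mem ha.1 hb.1, by rw [map_add, ha.2, hb.2, smul_add]⟩
  zero_mem' := ⟨S.zero_mem, by rw [map_zero, smul_zero]⟩
  smul_mem' := fun c a ha => ⟨S.smul_mem c ha.1, by rw [map_smul, ha.2, smul_comm]⟩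

theorem mem_Eg {S : Submodule K V} {r : Module.End K V} {μ : K} {v : V} : v ∈ Eg S r μ ↔ v ∈ S ∧ r v = μ • v :=
  Iff.rfl

variable [FiniteDimensional K V]

theorem finrank_Eg (h2 : (2 : K) ≠ 0) {S : Submodule K V} {r : Module.End K V} (hS : ∀ v ∈ S, r v ∈ S)
    (hr : ∀ v ∈ S, r (r v) = v) : finrank K S = finrank K (Eg S r 1) + finrank K (Eg S r (-1)) := by
  have h1 := Submodule.finrank_sup_add_finrank_inf_eq (Eg S r 1) (Eg S r (-1))
  have hinf : Eg S r 1 ⊓ Eg S r (-1) = ⊥ := by
    rw [eq_bot_iff]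
    rintro v ⟨⟨_, h3⟩, _, h4⟩
    rw [h3, one_smul, neg_smul, one_smul] at h4
    have h5 : (2 : K) • v = 0 := by
      rw [two_smul]
      nth_rw 1 [h4]
      rw [neg_add_cancel]
    rw [Submodule.mem_bot]
    exact (smul_eq_zero.1 h5).resolve_left h2
  have hsup : Eg S r 1 ⊔ Eg S r (-1) = S := by
    apply le_antisymm
    · exact sup_le (fun v hv => hv.1) (fun v hv => hv.1)
    · intro v hv
      have h3 : v = (2 : K)⁻¹ • (v + r v) + (2 : K)⁻¹ • (v - r v) := by
        rw [← smul_add, add_add_sub_cancel, ← two_smul K v, smul_smul, inv_mul_cancel₀ h2, one_smul]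
      rw [h3]
      apply Submodule.add_mem_sup
      · refine ⟨S.smul_mem _ (S.add_mem hv (hS v hv)), ?_⟩
        rw [map_smul, map_add, hr v hv, one_smul, add_comm]
      · refine ⟨S.smul_mem _ (S.sub_mem hv (hS v hv)), ?_⟩
        rw [map_smul, map_sub, hr v hv, neg_smul, one_smul, ← smul_neg, neg_sub]
  rw [hinf, finrank_bot, add_zero, hsup] at h1
  exact h1

theorem finrank_Eg_conj {L : Type*} [Group L] (ρ : L →* Module.End K V) {a b : L} (h : IsConj a b) (μ : K) :
    finrank K (Eg ⊤ (ρ a) μ) = finrank K (Eg ⊤ (ρ b) μ) := by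
  have key : ∀ {a b : L}, IsConj a b → finrank K (Eg ⊤ (ρ a) μ) ≤ finrank K (Eg ⊤ (ρ b) μ) := by
    intro a b h
    obtain ⟨c, hc⟩ := isConj_iff.1 h
    let f : Eg ⊤ (ρ a) μ →ₗ[K] Eg ⊤ (ρ b) μ := (ρ c).restrict (fun v hv => by
      refine ⟨trivial, ?_⟩
      rw [← Module.End.mul_apply, ← map_mul, ← hc, inv_mul_cancel_right, map_mul, Module.End.mul_apply, hv.2,
        map_smul])
    refine LinearMap.finrank_le_finrank_of_injective (f := f) ?_
    rw [injective_iff_map_eq_zero]
    intro v hv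
    have h1 : ρ c v.1 = 0 := congrArg Subtype.val hv
    have h2 := congrArg (ρ c⁻¹) h1
    rw [← Module.End.mul_apply, ← map_mul, inv_mul_cancel, map_one, Module.End.one_apply, map_zero] at h2
    exact Subtype.ext h2
  exact le_antisymm (key h) (key h.symm)

/-- **Degree ten.** -/
theorem no_ten [IsAlgClosed K] {L : Type*} [Group L] (ρ : L →* Module.End K V)
    (B : LinearMap.BilinForm K V) (hnd : ∀ u, (∀ v, B u v = 0) → u = 0)
    (hinv : ∀ g u v, B (ρ g u) (ρ g v) = B u v) (hAlt : B.IsAlt) (h2 : (2 : K) ≠ 0) (hV : finrank K V = 10)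
    {g z u n : L} (hgz : g * g = z) (hz : z * z = 1) (hu : u * u = 1) (huz : u * z = z * u)
    (hc1 : IsConj z u) (hc2 : IsConj z (z * u)) (hn : ρ n = -1) (hgn : IsConj g (n * g)) (hz1 : ρ z ≠ 1) : False := by
  have ap : ∀ (a b : L) (v : V), ρ a (ρ b v) = ρ (a * b) v := fun a b v => by
    rw [← Module.End.mul_apply, ← map_mul]
  have ap1 : ∀ v : V, ρ 1 v = v := fun v => by rw [map_one, Module.End.one_apply]
  have h2N : ((2 : ℕ) : K) ≠ 0 := by exact_mod_cast h2
  have h4N : ((4 : ℕ) : K) ≠ 0 := by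
    have : ((4 : ℕ) : K) = 2 * 2 := by norm_num
    rw [this]
    exact mul_ne_zero h2 h2
  -- the parities
  have hev1 := even_fix ρ B hnd hinv hAlt (S := {z, u}) h2N (by
    rintro x (rfl | rfl) y (rfl | rfl)
    · rfl
    · exact huz.symm
    · exact huz
    · rfl) (by
    rintro x (rfl | rfl)
    · rw [pow_two, hz]
    · rw [pow_two, hu])
  have hev2 := even_fix ρ B hnd hinv hAlt (S := {g}) h4N (by
    rintro x rfl y rfl
    rfl) (by
    rintro x rfl
    rw [show 4 = 2 * 2 from rfl, pow_mul, pow_two, pow_two, hgz, hz])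
  -- the four-group
  have e0 := finrank_Eg h2 (S := (⊤ : Submodule K V)) (r := ρ z) (fun v _ => trivial) (fun v _ => by
    rw [ap, hz, ap1])
  have e1 := finrank_Eg h2 (S := Eg (⊤ : Submodule K V) (ρ z) 1) (r := ρ u) (fun v hv => ⟨trivial, by
    rw [ap, ← huz, ← ap, hv.2, one_smul, one_smul]⟩) (fun v _ => by rw [ap, hu, ap1])
  have e2 := finrank_Eg h2 (S := Eg (⊤ : Submodule K V) (ρ z) (-1)) (r := ρ u) (fun v hv => ⟨trivial, by
    rw [ap, ← huz, ← ap, hv.2, map_smul]⟩) (fun v _ => by rw [ap, hu, ap1])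
  have e3 := finrank_Eg h2 (S := Eg (⊤ : Submodule K V) (ρ u) 1) (r := ρ z) (fun v hv => ⟨trivial, by
    rw [ap, huz, ← ap, hv.2, one_smul, one_smul]⟩) (fun v _ => by rw [ap, hz, ap1])
  have e4 := finrank_Eg h2 (S := Eg (⊤ : Submodule K V) (ρ (z * u)) 1) (r := ρ z) (fun v hv => ⟨trivial, by
    rw [ap, mul_assoc, huz, ← mul_assoc, ← ap, ← ap, ap z u, hv.2, one_smul, one_smul]⟩)
    (fun v _ => by rw [ap, hz, ap1])
  have c1 := finrank_Eg_conj ρ hc1 1
  have c2 := finrank_Eg_conj ρ hc2 1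
  rw [finrank_top, hV] at e0
  have f1 : Eg (Eg (⊤ : Submodule K V) (ρ u) 1) (ρ z) 1 = Eg (Eg (⊤ : Submodule K V) (ρ z) 1) (ρ u) 1 := by
    ext v
    simp only [mem_Eg, Submodule.mem_top, true_and]
    exact and_comm
  have f2 : Eg (Eg (⊤ : Submodule K V) (ρ u) 1) (ρ z) (-1) = Eg (Eg (⊤ : Submodule K V) (ρ z) (-1)) (ρ u) 1 := by
    ext v
    simp only [mem_Eg, Submodule.mem_top, true_and]
    exact and_comm
  have f3 : Eg (Eg (⊤ : Submodule K V) (ρ (z * u)) 1) (ρ z) 1 = Eg (Eg (⊤ : Submodule K V) (ρ z) 1) (ρ u) 1 := by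
    ext v
    simp only [mem_Eg, Submodule.mem_top, true_and, one_smul]
    constructor
    · rintro ⟨h3, h4⟩
      refine ⟨h4, ?_⟩
      rw [← huz, ← ap, h4] at h3
      exact h3
    · rintro ⟨h3, h4⟩
      refine ⟨?_, h3⟩
      rw [← ap, h4, h3]
  have f4 : Eg (Eg (⊤ : Submodule K V) (ρ (z * u)) 1) (ρ z) (-1) = Eg (Eg (⊤ : Submodule K V) (ρ z) (-1)) (ρ u) (-1) := by
    ext v
    simp only [mem_Eg, Submodule.mem_top, true_and, one_smul, neg_smul]
    constructor
    · rintro ⟨h3, h4⟩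
      refine ⟨h4, ?_⟩
      rw [← huz, ← ap, h4, map_neg] at h3
      rw [← h3, neg_neg] 
      nth_rw 2 [← h3]
    · rintro ⟨h3, h4⟩
      refine ⟨?_, h3⟩
      rw [← ap, h4, map_neg, h3, neg_neg]
  rw [f1, f2] at e3
  rw [f3, f4] at e4
  -- the first parity
  have g1 : FixS ρ ({z, u} : Set L) = Eg (Eg (⊤ : Submodule K V) (ρ z) 1) (ρ u) 1 := by
    ext v
    simp only [mem_FixS, mem_Eg, Submodule.mem_top, true_and, one_smul, Set.mem_insert_iff, Set.mem_singleton_iff,
      forall_eq_or_imp, forall_eq]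
  rw [g1] at hev1
  -- the element of order four
  have e5 := finrank_Eg h2 (S := Eg (⊤ : Submodule K V) (ρ z) 1) (r := ρ g) (fun v hv => ⟨trivial, by
    rw [ap, ← hgz, mul_assoc, hgz, ← ap, hv.2, one_smul, one_smul]⟩) (fun v hv => by
      rw [ap, hgz, hv.2, one_smul])
  have g2 : Eg (Eg (⊤ : Submodule K V) (ρ z) 1) (ρ g) 1 = Eg (⊤ : Submodule K V) (ρ g) 1 := by
    ext v
    simp only [mem_Eg, Submodule.mem_top, true_and, one_smul]
    constructor
    · exact fun h => h.2
    · intro h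
      refine ⟨?_, h⟩
      rw [← hgz, ← ap, h, h]
  have g3 : Eg (Eg (⊤ : Submodule K V) (ρ z) 1) (ρ g) (-1) = Eg (⊤ : Submodule K V) (ρ g) (-1) := by
    ext v
    simp only [mem_Eg, Submodule.mem_top, true_and, one_smul, neg_smul]
    constructor
    · exact fun h => h.2
    · intro h
      refine ⟨?_, h⟩
      rw [← hgz, ← ap, h, map_neg, h, neg_neg]
  have g4 : Eg (⊤ : Submodule K V) (ρ g) (-1) = Eg (⊤ : Submodule K V) (ρ (n * g)) 1 := by
    ext v
    simp only [mem_Eg, Submodule.mem_top, true_and, one_smul, neg_smul]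
    rw [map_mul, hn, Module.End.mul_apply, LinearMap.neg_apply, Module.End.one_apply, neg_eq_iff_eq_neg]
  have c3 := finrank_Eg_conj ρ hgn 1
  rw [g2, g3, g4, ← c3] at e5
  have g5 : FixS ρ ({g} : Set L) = Eg (⊤ : Submodule K V) (ρ g) 1 := by
    ext v
    simp only [mem_FixS, mem_Eg, Submodule.mem_top, true_and, one_smul, Set.mem_singleton_iff, forall_eq]
  rw [g5] at hev2
  -- not everything is fixed
  have h10 : finrank K (Eg (⊤ : Submodule K V) (ρ z) 1) ≠ 10 := by
    intro h
    apply hz1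
    have h3 : Eg (⊤ : Submodule K V) (ρ z) 1 = ⊤ := Submodule.eq_top_of_finrank_eq (by rw [h, hV])
    refine LinearMap.ext fun v => ?_
    have h4 : v ∈ Eg (⊤ : Submodule K V) (ρ z) 1 := by rw [h3]; trivial
    rw [h4.2, one_smul, Module.End.one_apply]
  obtain ⟨i, hi⟩ := hev1
  obtain ⟨j, hj⟩ := hev2
  omega

end

end Cfsg.Agent.H912.Sp10
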