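import Cfsg.Agent.H926.MThFix
import Cfsg.Agent.H953.Sympl
import Cfsg.Agent.S2034
import Cfsg.Agent.H912.Sp10.Cross

/-!
# `M₁₁` in dimension ten and characteristic three: no invariant alternating form (helper912)

The argument of helper926 (`H926.MTh`), with an alternating form: there is a vector `v ≠ 0` spanning a line invariant
under the stabiliser of a point; it is orthogonal to all its translates.
-/

set_option autoImplicit false
set_option linter.unusedSectionVars false

namespace Cfsg.Agent.H912.Sp10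

open Module Cfsg Cfsg.Geo Cfsg.Agent.H926.MTh

universe u

variable {k : Type*} [Field k] {V : Type*} [AddCommGroup V] [Module k V] {G : Type*} [Group G]

theorem nd_even [FiniteDimensional k V] {B : LinearMap.BilinForm k V} (ha : ∀ v, B v v = 0) {U : Submodule k V}
    (hU : ND B U) : Even (finrank k U) := by
  apply H953.even_finrank_of_alt (B.restrict U) (fun v => ha v)
  intro u hu
  by_contra h0
  obtain ⟨w, hw, huw⟩ := hU u u.2 (fun h => h0 (Subtype.ext h))
  exact huw (hu ⟨w, hw⟩)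

theorem exists_vec_alt [FiniteDimensional k V] (h3 : (3 : k) = 0) (h2 : (2 : k) ≠ 0) (h10 : finrank k V = 10)
    {B : LinearMap.BilinForm k V} (ha : ∀ v, B v v = 0) (hnd : ∀ v, v ≠ 0 → ∃ w, B v w ≠ 0)
    (ρ : G →* End k V) (hρ : Function.Injective ρ) (hi : ∀ g v w, B (ρ g v) (ρ g w) = B v w) {x t s r u : G}
    (D : Dat x t s r u) :
    ∃ v : V, v ≠ 0 ∧ ρ t v = v ∧ ρ s v = v ∧ (ρ x v = v ∨ ρ x v = -v) := by
  -- group relations
  obtain ⟨zz, z1, tt, tx, ux, sss, sz, st, us, rf, rg⟩ := D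
  have gtu : t * u = x * x := by
    have h1 : u = x * t * x⁻¹ := by rw [← ux, mul_inv_cancel_right]
    rw [h1, ← mul_assoc, ← mul_assoc, tx, mul_assoc (x * x * x), tt, mul_one, mul_inv_cancel_right]
  have guu : u * u = 1 := by
    have h1 : u = x * t * x⁻¹ := by rw [← ux, mul_inv_cancel_right]
    rw [h1]
    calc x * t * x⁻¹ * (x * t * x⁻¹) = x * (t * t) * x⁻¹ := by group
      _ = 1 := by rw [tt]; group
  set f := x * x with hf
  set z := f * f with hz
  set g := x * t with hg
  clear_value g z f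
  have gxz : x * z = z * x := by rw [hz, hf]; group
  have gxf : x * f = f * x := by rw [hf]; group
  have gfz : f * z = z * f := by rw [hz]; group
  have gtf : t * f = z * f * t := by
    rw [hz, hf]
    calc t * (x * x) = (t * x) * x := by group
      _ = (x * x * x * t) * x := by rw [tx, hf]
      _ = x * x * x * (t * x) := by group
      _ = x * x * x * (x * x * x * t) := by rw [tx, hf]
      _ = x * x * (x * x) * (x * x) * t := by group
  have gtz : t * z = z * t := by
    calc t * z = (t * f) * f := by rw [hz]; group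
      _ = (z * f * t) * f := by rw [gtf]
      _ = z * f * (t * f) := by group
      _ = z * f * (z * f * t) := by rw [gtf]
      _ = (z * z) * (f * f) * t := by rw [hz]; group
      _ = z * t := by rw [zz, one_mul, hz]
  have guz : u * z = z * u := by
    have h1 : u = t * f := by rw [← gtu, ← mul_assoc, tt, one_mul]
    rw [h1, mul_assoc, gfz, ← mul_assoc, gtz, mul_assoc]
  have ggg : g * g = z := by
    rw [hg]
    calc x * t * (x * t) = x * (t * x) * t := by group
      _ = x * (x * x * x * t) * t := by rw [tx, hf]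
      _ = x * x * (x * x) * (t * t) := by group
      _ = z := by rw [tt, hz, hf, mul_one]
  have gfg : f * g = z * (g * f) := by
    rw [hg]
    calc f * (x * t) = z * z * f * (x * t) := by rw [zz, one_mul]
      _ = z * (x * (z * f * t)) := by rw [hz, hf]; group
      _ = z * (x * (t * f)) := by rw [gtf]
      _ = z * (x * t * f) := by group
  have gzg : z * g = g * z := by rw [← ggg]; group
  -- operators
  have hzz : ∀ v, ρ z (ρ z v) = v := fun v => by rw [← rmul, zz, rone]
  have htt : ∀ v, ρ t (ρ t v) = v := fun v => by rw [← rmul, tt, rone]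
  have huu : ∀ v, ρ u (ρ u v) = v := fun v => by rw [← rmul, guu, rone]
  have hff : ∀ v, ρ f (ρ f v) = ρ z v := fun v => by rw [← rmul, hz]
  have hgg : ∀ v, ρ g (ρ g v) = ρ z v := fun v => by rw [← rmul, ggg]
  have htu : ∀ v, ρ t (ρ u v) = ρ f v := fun v => by rw [← rmul, gtu]
  have htz : ∀ v, ρ t (ρ z v) = ρ z (ρ t v) := fun v => by rw [← rmul, gtz, rmul]
  have huz : ∀ v, ρ u (ρ z v) = ρ z (ρ u v) := fun v => by rw [← rmul, guz, rmul]
  have hgz : ∀ v, ρ z (ρ g v) = ρ g (ρ z v) := fun v => by rw [← rmul, gzg, rmul]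
  have hfz : ∀ v, ρ f (ρ z v) = ρ z (ρ f v) := fun v => by rw [← rmul, gfz, rmul]
  have hfg : ∀ v, ρ f (ρ g v) = ρ z (ρ g (ρ f v)) := fun v => by rw [← rmul, gfg, rmul, rmul]
  have hxz : ∀ v, ρ x (ρ z v) = ρ z (ρ x v) := fun v => by rw [← rmul, gxz, rmul]
  have hxx : ∀ v, ρ x (ρ x v) = ρ f v := fun v => by rw [← rmul, hf]
  have hfut : ∀ v, ρ f (ρ u (ρ t v)) = v := fun v => by rw [← htu, huu, htt]
  have hCF : C (ρ f) ≤ C (ρ z) := by
    intro v hv
    rw [mem_C] at hv ⊢
    rw [← hff, hv, hv]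
  have hCG : C (ρ g) ≤ C (ρ z) := by
    intro v hv
    rw [mem_C] at hv ⊢
    rw [← hgg, hv, hv]
  have hCFG : C (ρ f * ρ g) ≤ C (ρ z) := by
    intro v hv
    rw [mem_C, Module.End.mul_apply] at hv
    have h1 : ρ f (ρ g (ρ f (ρ g v))) = ρ z v := by
      rw [← rmul, ← rmul, ← rmul]
      congr 2
      calc f * g * f * g = z * (g * f) * f * g := by rw [← gfg]
        _ = z * g * (f * f) * g := by group
        _ = z * (g * z) * g := by rw [← hz]; group
        _ = z * z * (g * g) := by rw [← gzg]; group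
        _ = z := by rw [zz, ggg, one_mul]
    rw [mem_C, ← h1, hv, hv]
  -- the centre
  have e1 := split (α := ρ z) h2 (W := ⊤) (fun _ _ => trivial) (fun w _ => hzz w)
  have e2 := vier (α := ρ z) (β := ρ t) h2 (W := ⊤) (fun _ _ => trivial) (fun _ _ => trivial) (fun w _ => hzz w)
    (fun w _ => htt w) (fun w _ => (htz w).symm)
  rw [top_inf_eq, top_inf_eq, finrank_top, h10] at e1
  rw [top_inf_eq, top_inf_eq, top_inf_eq, finrank_top, h10, ← map_mul] at e2
  have e3 : finrank k (C (ρ z)) = finrank k (C (ρ t)) := fr_conj ρ sz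
  have e4 : finrank k (C (ρ t)) = finrank k (C (ρ (z * t))) := fr_conj ρ st
  have ndV : ND B ⊤ := by
    intro v _ hv
    obtain ⟨w, hw⟩ := hnd v hv
    exact ⟨w, trivial, hw⟩
  have ndC : ND B (C (ρ z)) := by
    have h1 := ndV.plus h2 (α := ρ z) (fun _ _ => trivial) (fun v _ => hzz v) (hi z)
    rwa [top_inf_eq] at h1
  have ndCT : ND B (C (ρ z) ⊓ C (ρ t)) :=
    ndC.plus h2 (fun w hw => by rw [mem_C] at hw ⊢; rw [← htz, hw]) (fun w _ => htt w) (hi t)
  obtain ⟨a5, e5⟩ := nd_even ha ndC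
  obtain ⟨b5, e5'⟩ := nd_even ha ndCT
  have e6 : finrank k (N (ρ z)) ≠ 0 := by
    rw [Ne, Submodule.finrank_eq_zero]
    intro h0
    apply z1
    apply hρ
    rw [map_one]
    ext v
    have h1 : v - ρ z v ∈ N (ρ z) := by
      rw [mem_N, map_sub, hzz, neg_sub]
    rw [h0, Submodule.mem_bot, sub_eq_zero] at h1
    exact h1.symm
  have c6 : finrank k (C (ρ z)) = 6 := by omega
  have c4 : finrank k (C (ρ z) ⊓ C (ρ t) : Submodule k V) = 4 := by omega
  have c4' : finrank k (C (ρ z) ⊓ C (ρ u) : Submodule k V) = 4 := by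
    rw [← c4]
    exact (fr_conj₂ ρ gxz (ux.trans hg).symm).symm
  -- `D₈`
  have e7 := vier (α := ρ t) (β := ρ u) h2 (W := C (ρ z))
    (fun w hw => by rw [mem_C] at hw ⊢; rw [← htz, hw]) (fun w hw => by rw [mem_C] at hw ⊢; rw [← huz, hw])
    (fun w _ => htt w) (fun w _ => huu w) (fun w hw => by
      rw [mem_C] at hw
      rw [htu]
      exact (rinj ρ f (by rw [hfut, hff, hw])).symm)
  have e8 : (C (ρ z) ⊓ C (ρ t * ρ u) : Submodule k V) = C (ρ f) := by
    have h1 : ρ t * ρ u = ρ f := by rw [← map_mul, gtu]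
    rw [h1]
    exact inf_eq_right.2 hCF
  rw [e8, c6, c4, c4'] at e7
  -- `Q₈`
  have e9 := vier (α := ρ f) (β := ρ g) h2 (W := C (ρ z))
    (fun w hw => by rw [mem_C] at hw ⊢; rw [← hfz, hw]) (fun w hw => by rw [mem_C] at hw ⊢; rw [hgz, hw])
    (fun w hw => by rw [hff, mem_C.1 hw]) (fun w hw => by rw [hgg, mem_C.1 hw])
    (fun w hw => by rw [hfg, hgz, ← hfz, mem_C.1 hw])
  rw [inf_eq_right.2 hCF, inf_eq_right.2 hCG, inf_eq_right.2 hCFG, c6, ← map_mul] at e9
  have e10 : finrank k (C (ρ f)) = finrank k (C (ρ g)) := fr_conj ρ rf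
  have e11 : finrank k (C (ρ g)) = finrank k (C (ρ (f * g))) := fr_conj ρ rg
  have hA : C (ρ z) ⊓ C (ρ t) ⊓ C (ρ u) ≤ C (ρ f) := by
    rintro v ⟨⟨-, h4⟩, h5⟩
    rw [SetLike.mem_coe, mem_C] at h4 h5
    rw [mem_C, ← htu, h5, h4]
  have e12 := Submodule.finrank_mono hA
  have e13 := Submodule.finrank_mono (R := k)
    (inf_le_left : C (ρ z) ⊓ C (ρ t) ⊓ C (ρ u) ≤ C (ρ z) ⊓ C (ρ t))
  rw [c4] at e13
  have hSY : ∀ v ∈ C (ρ z) ⊓ C (ρ t), ρ s v ∈ C (ρ z) ⊓ C (ρ t) := by
    rintro v ⟨h4, h5⟩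
    rw [SetLike.mem_coe, mem_C] at h4 h5
    have h6 : ρ t (ρ s v) = ρ s v := by rw [← rmul, ← sz, rmul, h4]
    have h7 : ρ z (ρ t (ρ s v)) = ρ s v := by
      rw [← rmul, ← rmul, ← st, rmul, h5]
    rw [h6] at h7
    exact ⟨mem_C.2 h7, mem_C.2 h6⟩
  have hus : ∀ v, ρ u (ρ s v) = ρ s (ρ s (ρ u v)) := fun v => by rw [← rmul, us, rmul, rmul]
  have hsss : ∀ v, ρ s (ρ s (ρ s v)) = v := fun v => by
    rw [← rmul, ← rmul, sss, rone]
  by_cases hn : finrank k (C (ρ z) ⊓ C (ρ t) ⊓ C (ρ u) : Submodule k V) = 2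
  · -- the case of dimension 2
    have hUY : ∀ v ∈ C (ρ z) ⊓ C (ρ t), ρ u v ∈ C (ρ z) ⊓ C (ρ t) := by
      rintro v ⟨h4, h5⟩
      rw [SetLike.mem_coe, mem_C] at h4 h5
      have h6 : ρ u (ρ t v) = ρ f v := rinj ρ f (by rw [hfut, hff, h4])
      refine ⟨?_, ?_⟩
      · rw [SetLike.mem_coe, mem_C, ← huz, h4]
      · rw [SetLike.mem_coe, mem_C, htu, ← h6, h5]
    have hYnd : ND B (C (ρ z) ⊓ C (ρ t)) := by
      have h1 := ndV.plus h2 (α := ρ z) (fun _ _ => trivial) (fun v _ => hzz v) (hi z)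
      rw [top_inf_eq] at h1
      exact h1.plus h2 (fun w hw => by rw [mem_C] at hw ⊢; rw [← htz, hw]) (fun w _ => htt w) (hi t)
    have e14 := split h2 hUY (fun w _ => huu w)
    obtain ⟨v, hv, hv0, huv, hsv⟩ := three_fixed h3 h2 hYnd (by
      intro h0
      rw [h0, finrank_bot] at c4
      omega) hUY hSY (hi u) (hi s) (fun w _ => huu w) (fun w _ => hsss w) (fun w _ => hus w) (by omega)
    have hzv := mem_C.1 hv.1
    have htv := mem_C.1 hv.2
    have hfv : ρ f v = v := by rw [← htu, huv, htv]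
    have hk0 : (C (ρ f) ⊓ C (ρ g) : Submodule k V) = ⊥ := by
      rw [← Submodule.finrank_eq_zero (R := k)]
      omega
    have hmem : v + ρ g v ∈ (C (ρ f) ⊓ C (ρ g) : Submodule k V) := by
      refine ⟨?_, ?_⟩
      · rw [SetLike.mem_coe, mem_C, map_add, hfg, hfv, hgz, hzv]
      · rw [SetLike.mem_coe, mem_C, map_add, hgg, hzv, add_comm]
    rw [hk0, Submodule.mem_bot, hg, rmul, htv, add_comm] at hmem
    exact ⟨v, hv0, htv, hsv, Or.inr (eq_neg_of_add_eq_zero_left hmem)⟩
  · -- the case of dimension at least 3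
    have hAsub : ∀ v ∈ C (ρ z) ⊓ C (ρ t) ⊓ C (ρ u), ρ z v = v ∧ ρ t v = v ∧ ρ u v = v ∧ ρ f v = v := fun v hv =>
      ⟨mem_C.1 hv.1.1, mem_C.1 hv.1.2, mem_C.1 hv.2, mem_C.1 (hA hv)⟩
    set A : Submodule k V := C (ρ z) ⊓ C (ρ t) ⊓ C (ρ u) with hAd
    have hmapfr : ∀ (g : G) (L : Submodule k V), finrank k (L.map (ρ g)) = finrank k L := by
      intro g L
      apply le_antisymm
      · refine fr_le ρ g⁻¹ ?_
        rintro _ ⟨w, hw, rfl⟩
        rwa [← rmul, inv_mul_cancel, rone]
      · exact fr_le ρ g fun v hv => ⟨v, hv, rfl⟩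
    have d1 := Submodule.finrank_sup_add_finrank_inf_eq A (A.map (ρ s))
    have d2 : finrank k (A ⊔ A.map (ρ s) : Submodule k V) ≤ 4 := by
      rw [← c4]
      apply Submodule.finrank_mono
      refine sup_le (fun v hv => hv.1) ?_
      rintro _ ⟨w, hw, rfl⟩
      exact hSY w hw.1
    rw [hmapfr] at d1
    set L : Submodule k V := A ⊓ A.map (ρ s) with hL
    have hLs : ∀ v ∈ L, v ∈ A ∧ ρ s v = v := by
      rintro v ⟨hv, w, hw, hwv⟩
      refine ⟨hv, ?_⟩
      have h4 := (hAsub v hv).2.2.1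
      have h5 := (hAsub w hw).2.2.1
      have h6 := hus w
      rw [h5, hwv, h4] at h6
      exact h6.symm
    have d3 := Submodule.finrank_sup_add_finrank_inf_eq L (L.map (ρ x))
    have hxA : ∀ v ∈ A, ρ x v ∈ A := by
      intro v hv
      obtain ⟨h4, h5, h6, h7⟩ := hAsub v hv
      refine ⟨⟨?_, ?_⟩, ?_⟩
      · rw [SetLike.mem_coe, mem_C, ← hxz, h4]
      · rw [SetLike.mem_coe, mem_C, ← rmul, tx, rmul, h5, ← gxf, rmul, h7]
      · rw [SetLike.mem_coe, mem_C, ← rmul, ux, hg, rmul, h5]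
    have d4 : finrank k (L ⊔ L.map (ρ x) : Submodule k V) ≤ finrank k A := by
      apply Submodule.finrank_mono
      refine sup_le (fun v hv => (hLs v hv).1) ?_
      rintro _ ⟨w, hw, rfl⟩
      exact hxA w (hLs w hw).1
    rw [hmapfr] at d3
    have d5 : (L ⊓ L.map (ρ x) : Submodule k V) ≠ ⊥ := by
      rw [Ne, ← Submodule.finrank_eq_zero (R := k)]
      omega
    obtain ⟨v, ⟨hv, w, hw, hwv⟩, hv0⟩ := Submodule.exists_mem_ne_zero_of_ne_bot d5
    have hxv : ρ x v = w := by
      rw [← hwv, hxx]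
      exact (hAsub w (hLs w hw).1).2.2.2
    by_cases h0 : v + w = 0
    · refine ⟨v, hv0, (hAsub v (hLs v hv).1).2.1, (hLs v hv).2, Or.inr ?_⟩
      rw [hxv]
      exact eq_neg_of_add_eq_zero_right h0
    · refine ⟨v + w, h0, ?_, ?_, Or.inl ?_⟩
      · rw [map_add, (hAsub v (hLs v hv).1).2.1, (hAsub w (hLs w hw).1).2.1]
      · rw [map_add, (hLs v hv).2, (hLs w hw).2]
      · rw [map_add, hxv, hwv, add_comm]


theorem m11_alt_false [FiniteDimensional k V] (h3 : (3 : k) = 0) (h2 : (2 : k) ≠ 0) (h10 : finrank k V = 10)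
    {B : LinearMap.BilinForm k V} (ha : ∀ v, B v v = 0) (hnd : ∀ v, v ≠ 0 → ∃ w, B v w ≠ 0)
    (ρ : Spor.M11 →* End k V) (hρ : Function.Injective ρ) (hi : ∀ g v w, B (ρ g v) (ρ g w) = B v w)
    (hirr : ∀ S : Submodule k V, (∀ g, ∀ w ∈ S, ρ g w ∈ S) → S = ⊥ ∨ S = ⊤) : False := by
  obtain ⟨v, hv0, ht, hsv, hx⟩ := exists_vec_alt h3 h2 h10 ha hnd ρ hρ hi dat
  have hsk : ∀ v w, B v w = - B w v := by
    intro v w
    have h1 := ha (v + w)
    simp only [map_add, LinearMap.add_apply, ha, zero_add, add_zero] at h1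
    exact eq_neg_of_add_eq_zero_right h1
  have self_zero : ∀ a : k, a = -a → a = 0 := by
    intro a h
    have h1 : (2 : k) * a = 0 := by linear_combination h
    exact (mul_eq_zero.1 h1).resolve_left h2
  let S : Subgroup Spor.M11 :=
    { carrier := {g | ρ g v = v ∨ ρ g v = -v}
      one_mem' := Or.inl (rone ρ v)
      mul_mem' := by
        intro a b ha hb
        change ρ (a * b) v = v ∨ ρ (a * b) v = -v
        rcases (show ρ b v = v ∨ ρ b v = -v from hb) with hb | hb <;>
          rcases (show ρ a v = v ∨ ρ a v = -v from ha) with ha | ha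
        · exact Or.inl (by rw [rmul, hb, ha])
        · exact Or.inr (by rw [rmul, hb, ha])
        · exact Or.inr (by rw [rmul, hb, map_neg, ha])
        · exact Or.inl (by rw [rmul, hb, map_neg, ha, neg_neg])
      inv_mem' := by
        intro a ha
        change ρ a⁻¹ v = v ∨ ρ a⁻¹ v = -v
        rcases (show ρ a v = v ∨ ρ a v = -v from ha) with ha | ha
        · left
          apply rinj ρ a
          rw [← rmul, mul_inv_cancel, rone, ha]
        · right
          apply rinj ρ a
          rw [← rmul, mul_inv_cancel, rone, map_neg, ha, neg_neg] }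
  have hK : ∀ g ∈ K, ρ g v = v ∨ ρ g v = -v := fun g hg => K_le (K0 := S) hx (Or.inl ht) (Or.inl hsv) hg
  have hr : B v (ρ er v) = 0 := by
    rcases hx with hx | hx
    · let S' : Subgroup Spor.M11 :=
        { carrier := {g | ρ g v = v}
          one_mem' := rone ρ v
          mul_mem' := by
            intro a b ha hb
            change ρ (a * b) v = v
            rw [rmul, show ρ b v = v from hb, show ρ a v = v from ha]
          inv_mem' := by
            intro a ha
            change ρ a⁻¹ v = v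
            apply rinj ρ a
            rw [← rmul, mul_inv_cancel, rone, show ρ a v = v from ha] }
      have hK' : ∀ g ∈ K, ρ g v = v := fun g hg => K_le (K0 := S') hx ht hsv hg
      have hinv : er⁻¹ ∉ K := fun h => er_not_mem (by rw [← inv_inv er]; exact K.inv_mem h)
      obtain ⟨a, ha', b, hb, hab⟩ := double_K er_not_mem hinv
      apply self_zero
      calc B v (ρ er v) = B (ρ a⁻¹ v) (ρ er (ρ b v)) := by rw [hK' _ (K.inv_mem ha'), hK' _ hb]
        _ = B (ρ a (ρ a⁻¹ v)) (ρ a (ρ er (ρ b v))) := (hi a _ _).symm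
        _ = B v (ρ er⁻¹ v) := by
          rw [← rmul, mul_inv_cancel, rone, ← rmul, ← rmul, hab, mul_assoc]
        _ = B (ρ er v) (ρ er (ρ er⁻¹ v)) := (hi er _ _).symm
        _ = B (ρ er v) v := by rw [← rmul, mul_inv_cancel, rone]
        _ = - B v (ρ er v) := hsk _ _
    · have hgv : ρ (ex * et) v = -v := by rw [rmul, ht, hx]
      have hfv : ρ (ex * ex) v = v := by rw [rmul, hx, map_neg, hx, neg_neg]
      apply self_zero
      have h1 := hi (ex * et) v (ρ er v)
      rw [← rmul, ← dat.rf, rmul ρ er, hfv, hgv, map_neg, LinearMap.neg_apply] at h1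
      exact h1.symm
  have hall : ∀ g, B v (ρ g v) = 0 := by
    intro g
    by_cases hg : g ∈ K
    · rcases hK g hg with h4 | h4
      · rw [h4, ha]
      · rw [h4, map_neg, ha, neg_zero]
    · obtain ⟨a, ha', b, hb, rfl⟩ := double_K er_not_mem hg
      have h1 := hi a⁻¹ v (ρ (a * er * b) v)
      rw [← rmul, show a⁻¹ * (a * er * b) = er * b by group, rmul] at h1
      rw [← h1]
      rcases hK _ (K.inv_mem ha') with h4 | h4 <;> rcases hK _ hb with h5 | h5 <;>
        simp [h4, h5, hr]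
  let T : Submodule k V :=
    { carrier := {w | ∀ g, B (ρ g v) w = 0}
      zero_mem' := fun g => map_zero _
      add_mem' := by
        intro a b ha hb g
        rw [map_add, ha g, hb g, add_zero]
      smul_mem' := by
        intro c a ha g
        rw [map_smul, ha g, smul_zero] }
  have hvT : v ∈ T := by
    intro g
    rw [hsk, hall, neg_zero]
  rcases hirr T (by
    intro g w hw h
    have h1 := hi g⁻¹ (ρ h v) (ρ g w)
    rw [← rmul, ← rmul, inv_mul_cancel, rone] at h1
    rw [← h1]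
    exact hw (g⁻¹ * h)) with h1 | h1
  · rw [h1, Submodule.mem_bot] at hvT
    exact hv0 hvT
  · obtain ⟨w, hw⟩ := hnd v hv0
    have h4 : w ∈ T := by rw [h1]; trivial
    apply hw
    have h5 := h4 1
    rwa [rone] at h5

open Matrix Cfsg.Agent.H915.LD in
/-- **`M₁₁`, characteristic three.** -/
theorem m11_three_false {ι : Type} [Fintype ι] [DecidableEq ι] {F : Type u} [Field F] {P : Subgroup (GL ι F)}
    (hC : Core P) (hA : FixA P) (hι : Fintype.card ι = 10) (h3 : (3 : F) = 0) (h : Spor.IsoM11 (Soc P)) : False := by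
  have h2 : (2 : F) ≠ 0 := by
    intro h2
    have : (1 : F) = 0 := by linear_combination h3 - h2
    exact one_ne_zero this
  obtain ⟨e0⟩ := h
  obtain ⟨e, -⟩ := hC.equiv_of_coprime e0 S2034.result (by
    rw [Nat.card_eq_fintype_card, Fintype.card_multiplicative, ZMod.card]
    exact Nat.coprime_one_left _)
  obtain ⟨f, hf, hfix⟩ := hA
  let B : LinearMap.BilinForm F (ι → F) := LinearMap.mk₂ F f hf.bilinear.add_left hf.bilinear.smul_left
    hf.bilinear.add_right hf.bilinear.smul_right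
  let ρ : Spor.M11 →* End F (ι → F) :=
    { toFun := fun g => Matrix.toLin' (((e.symm g : P) : GL ι F) : Matrix ι ι F)
      map_one' := by
        rw [map_one, Subgroup.coe_one, Units.val_one, Matrix.toLin'_one]
        rfl
      map_mul' := by
        intro g h
        rw [map_mul, Subgroup.coe_mul, Units.val_mul, Matrix.toLin'_mul]
        rfl }
  have hρa : ∀ (g : Spor.M11) (v : ι → F), ρ g v = (((e.symm g : P) : GL ι F) : Matrix ι ι F) *ᵥ v :=
    fun g v => Matrix.toLin'_apply _ _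
  have hρi : Function.Injective ρ := by
    intro g h hgh
    exact e.symm.injective (Subtype.ext (Units.ext (Matrix.toLin'.injective hgh)))
  refine m11_alt_false h3 h2 (by rw [Module.finrank_fintype_fun_eq_card, hι]) (B := B) (fun v => hf.alternating v)
    (fun v hv => by
      obtain ⟨-, w, hw⟩ := hf.nondegenerate v hv
      exact ⟨w, hw⟩) ρ hρi
    (fun g v w => by
      rw [hρa, hρa]
      exact hfix _ ⟨_, (e.symm g).2, rfl⟩ _ _)
    (fun S hS => by
      refine hC.absIrred.1 S ?_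
      rintro _ ⟨g, hg, rfl⟩ _ ⟨w, hw, rfl⟩
      have h1 := hS (e ⟨g, hg⟩) w hw
      rw [hρa, MulEquiv.symm_apply_apply] at h1
      rw [Matrix.toLin'_apply]
      exact h1)

end Cfsg.Agent.H912.Sp10
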