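import Cfsg.Agent.H870.MEleven.Main
import Cfsg.Agent.H926.PermTr
import Cfsg.Agent.H912.Sp10.Cross
import Cfsg.Agent.S2034

/-!
# `M₁₁` in dimension ten and characteristic two: a quadratic form (helper912)
-/

set_option autoImplicit false
set_option linter.unusedSectionVars false
set_option maxRecDepth 100000

namespace Cfsg.Agent.H912.Sp10.MTwo

open Module Cfsg Cfsg.Geo Cfsg.Agent.H870.MEleven Cfsg.Agent.SporadicB.AtlasPres.M11Rec
open Matrix Cfsg.Agent.H915.LD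

universe u

/-- the value -/
def ap (g : K0) (i : Fin 11) : Fin 11 := (g : Equiv.Perm (Fin 11)) i

theorem ap_mul (g h : K0) (i : Fin 11) : ap (g * h) i = ap g (ap h i) := rfl

theorem ap_inv (g : K0) (i : Fin 11) : ap g (ap g⁻¹ i) = i := by
  rw [← ap_mul, mul_inv_cancel]
  rfl

theorem ap_inv' (g : K0) (i : Fin 11) : ap g⁻¹ (ap g i) = i := by
  rw [← ap_mul, inv_mul_cancel]
  rfl

theorem st1 (i : Fin 11) : ∃ g : K0, ap g 0 = i := by
  have key : ∀ i : Fin 11, ∃ a : Fin 11, (pX ^ (a : ℕ)) 0 = i := by decide +kernel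
  obtain ⟨a, ha⟩ := key i
  exact ⟨gX ^ (a : ℕ), ha⟩

theorem st3 (k : Fin 11) (h0 : k ≠ 0) (h5 : k ≠ 5) : ∃ g : K0, ap g 0 = 0 ∧ ap g 5 = 5 ∧ ap g 1 = k := by
  have key : ∀ k : Fin 11, k ≠ 0 → k ≠ 5 → ∃ d e : Fin 3, (pE1 ^ (d : ℕ) * pE2 ^ (e : ℕ)) 0 = 0 ∧
      (pE1 ^ (d : ℕ) * pE2 ^ (e : ℕ)) 5 = 5 ∧ (pE1 ^ (d : ℕ) * pE2 ^ (e : ℕ)) 1 = k := by decide +kernel
  obtain ⟨d, e, h⟩ := key k h0 h5
  exact ⟨gE1 ^ (d : ℕ) * gE2 ^ (e : ℕ), h⟩

theorem st2 (j : Fin 11) (h0 : j ≠ 0) : ∃ g : K0, ap g 0 = 0 ∧ ap g 5 = j := by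
  by_cases h5 : j = 5
  · exact ⟨1, rfl, h5.symm⟩
  · obtain ⟨g, h1, -, h3⟩ := st3 j h0 h5
    obtain ⟨g', h1', -, h3'⟩ := st3 (pB 5) (by decide) (by decide)
    refine ⟨g * g'⁻¹ * gB, ?_, ?_⟩
    · rw [ap_mul, ap_mul]
      have h4 : ap gB 0 = 0 := by decide
      have h6 : ap g'⁻¹ 0 = 0 := by
        have := ap_inv' g' 0
        rwa [h1'] at this
      rw [h4, h6, h1]
    · rw [ap_mul, ap_mul]
      have h4 : ap gB 5 = pB 5 := rfl
      have h6 : ap g'⁻¹ (pB 5) = 1 := by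
        have := ap_inv' g' 1
        rwa [h3'] at this
      rw [h4, h6, h3]

theorem three_trans {i j k : Fin 11} (hij : i ≠ j) (hik : i ≠ k) (hjk : j ≠ k) :
    ∃ g : K0, ap g 0 = i ∧ ap g 5 = j ∧ ap g 1 = k := by
  obtain ⟨g1, h1⟩ := st1 i
  have inj : ∀ (g : K0) {a b : Fin 11}, ap g a = ap g b → a = b := fun g a b h =>
    (g : Equiv.Perm (Fin 11)).injective h
  obtain ⟨g2, h2, h2'⟩ := st2 (ap g1⁻¹ j) (by
    intro h
    apply hij
    rw [← h1, ← h, ap_inv])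
  have h3 : ap (g1 * g2)⁻¹ k ≠ 0 := by
    intro h
    apply hik
    rw [← ap_inv (g1 * g2) k, h, ap_mul, h2, h1]
  have h4 : ap (g1 * g2)⁻¹ k ≠ 5 := by
    intro h
    apply hjk
    rw [← ap_inv (g1 * g2) k, h, ap_mul, h2', ap_inv]
  obtain ⟨g3, h5, h6, h7⟩ := st3 _ h3 h4
  refine ⟨g1 * g2 * g3, ?_, ?_, ?_⟩
  · rw [ap_mul, h5, ap_mul, h2, h1]
  · rw [ap_mul, h6, ap_mul, h2', ap_inv]
  · rw [ap_mul, h7, ap_inv]

variable {ι : Type} [Fintype ι] [DecidableEq ι] {F : Type u} [Field F] {P : Subgroup (GL ι F)}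

/-- **`M₁₁`, characteristic two.** -/
theorem m11_two [Finite F] [CharP F 2] (hC : Core P) (hA : FixA P) (hι : Fintype.card ι = 10)
    (h : Spor.IsoM11 (Soc P)) : FixQ P := by
  have iF := Fintype.ofFinite F
  have h2 : (2 : F) = 0 := by exact_mod_cast CharP.cast_eq_zero F 2
  obtain ⟨e0⟩ := h
  obtain ⟨e, -⟩ := hC.equiv_of_coprime e0 S2034.result (by
    rw [Nat.card_eq_fintype_card, Fintype.card_multiplicative, ZMod.card]
    exact Nat.coprime_one_left _)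
  have hM : Spor.IsoM11 P := ⟨e⟩
  have hF := card_field hC (sd_of_fixA hA) hM
  obtain ⟨e1⟩ := exists_equiv hM
  let φ : K0 →* GL ι F := P.subtype.comp e1.symm.toMonoidHom
  have hφ : φ gX ≠ 1 := by
    intro h0
    apply X_ne
    have h1 : e1.symm gX = 1 := Subtype.ext h0
    rw [← e1.apply_symm_apply gX, h1, map_one]
  let act : MulAction P (Fin 11) :=
    { smul := fun g i => ap (e1 g) i
      one_smul := fun i => by
        change ap (e1 1) i = i
        rw [map_one]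
        rfl
      mul_smul := fun g h i => by
        change ap (e1 (g * h)) i = ap (e1 g) (ap (e1 h) i)
        rw [map_mul, ap_mul] }
  obtain ⟨v, hv, -, hsp, hne⟩ := H926.PermTr.exists_system (P := P) hC.absIrred (X := Fin 11) (by simp [hι]) (by
    intro g
    have h1 := trace_eq hF hι φ hφ (e1 g)
    have h3 : (mat φ (e1 g)).trace = tr (g : GL ι F) := by
      rw [mat_apply, tr]
      change (((e1.symm (e1 g) : P) : GL ι F) : Matrix ι ι F).trace = _
      rw [e1.symm_apply_apply]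
    rw [← h3, h1]
    have h4 : (fixp (e1 g) : F) = ((Finset.univ.filter fun x : Fin 11 => g • x = x).card : F) := rfl
    rw [h4]
    linear_combination h2)
  obtain ⟨f, hf, hfix⟩ := hA
  have hv' : ∀ (g : P) (i : Fin 11), ((g : GL ι F) : Matrix ι ι F) *ᵥ v i = v (ap (e1 g) i) := hv
  have hconst : ∀ i j k, i ≠ j → i ≠ k → j ≠ k → f (v i - v j) (v i - v k) = f (v 0 - v 5) (v 0 - v 1) := by
    intro i j k hij hik hjk
    obtain ⟨g, h1, h3, h4⟩ := three_trans hij hik hjk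
    have h5 := hfix _ ⟨_, (e1.symm g).2, rfl⟩ (v 0 - v 5) (v 0 - v 1)
    rw [Matrix.mulVec_sub, Matrix.mulVec_sub, hv', hv', hv', e1.apply_symm_apply, h1, h3, h4] at h5
    exact h5
  refine fixQ_fam h2 hC hf hfix hι (Or.inl rfl) (W := fun i j => v i - v j) (i0 := 0) (j0 := 1)
    (fun i j k => by simp) ?_ (fun g hg => ⟨(e1 ⟨g, hg⟩ : K0), fun i j => ?_⟩) hconst
  · intro h0
    have h1 : ∀ i, v i = v 0 := by
      intro i
      by_cases hi : i = 0
      · rw [hi]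
      · obtain ⟨j, hj, hj'⟩ : ∃ j : Fin 11, j ≠ 0 ∧ j ≠ i := by
          by_cases h1 : i = 1
          · exact ⟨2, by decide, by rw [h1]; decide⟩
          · exact ⟨1, by decide, fun h => h1 h.symm⟩
        obtain ⟨j', hj2, hj2', hj3⟩ : ∃ j : Fin 11, j ≠ 0 ∧ j ≠ 1 ∧ j ≠ 5 := ⟨2, by decide, by decide, by decide⟩
        obtain ⟨g, a1, -, a3⟩ := three_trans (i := 0) (j := j) (k := i) (Ne.symm hj) (Ne.symm hi) hj'
        have h5 := hv' (e1.symm g) 0
        have h6 := hv' (e1.symm g) 1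
        rw [e1.apply_symm_apply, a1] at h5
        rw [e1.apply_symm_apply, a3] at h6
        rw [← h6, ← h5, sub_eq_zero.1 h0, ← sub_eq_zero.1 h0]
    have h3 : (⊤ : Submodule F (ι → F)) ≤ Submodule.span F {v 0} := by
      rw [← hsp, Submodule.span_le]
      rintro _ ⟨i, rfl⟩
      change v i ∈ Submodule.span F {v 0}
      rw [h1 i]
      exact Submodule.mem_span_singleton_self _
    have h4 := Submodule.finrank_mono (R := F) h3
    rw [finrank_top, Module.finrank_fintype_fun_eq_card, hι] at h4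
    have h5 := finrank_span_le_card (R := F) ({v 0} : Set (ι → F))
    simp at h5
    omega
  · rw [Matrix.mulVec_sub]
    have h5 := hv' ⟨g, hg⟩ i
    have h6 := hv' ⟨g, hg⟩ j
    change (g : Matrix ι ι F) *ᵥ _ = _ at h5 h6
    rw [h5, h6]
    rfl

end Cfsg.Agent.H912.Sp10.MTwo
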