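import Cfsg.Agent.H912.Sp10.Cross
import Cfsg.Agent.H912.Sp10.MElTwo
import Cfsg.Agent.H912.Sp10.MElThree

/-!
# Residual cores in `Sp₁₀(q)`: cross characteristic, all rows (helper912)
-/

set_option autoImplicit false
set_option linter.unusedSectionVars false

namespace Cfsg.Agent.H912.Sp10

open Cfsg Cfsg.Geo Matrix Cfsg.Agent.H871.Par Cfsg.Agent.H936.List12 Cfsg.Agent.H912.Bd
open Cfsg.Agent.H915.LD

universe u v

variable {F : Type u} [Field F] [Finite F] {p : ℕ} [CharP F p] [hp : Fact p.Prime]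

variable (p) in
include hp in
theorem not_m11 {P : Subgroup (GL (Fin 10) F)} (hC : Core P) (hA : FixA P) (hQ : ¬ FixQ P) :
    ¬ Spor.IsoM11 (Soc P) := by
  intro h
  have hc : Fintype.card (Fin 10) = 10 := by simp
  rcases eq_or_ne p 2 with rfl | hp2
  · exact hQ (MTwo.m11_two hC hA hc h)
  rcases eq_or_ne p 3 with rfl | hp3
  · exact m11_three_false hC hA hc (by exact_mod_cast CharP.cast_eq_zero F 3) h
  obtain ⟨e⟩ := h
  have h2 : (2 : F) ≠ 0 := by exact_mod_cast cast_ne_zero (F := F) Nat.prime_two hp2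
  have h3 : (3 : F) ≠ 0 := by exact_mod_cast cast_ne_zero (F := F) Nat.prime_three hp3
  have h4 := (pa_of_fixA hA h2 e).of_quat9 h2 h3 quat9_M11
  rw [hc] at h4
  omega

/-- **Cross characteristic.** -/
theorem cross_all {P : Subgroup (GL (Fin 10) F)} (hC : Core P) (hA : FixA P) (hQ : ¬ FixQ P)
    (hK : IsKnownSimple' (Soc P)) (hL : ¬ IsLieTypeChar p (Soc P)) :
    Nonempty (Soc P ≃* alternatingGroup (Fin 6)) ∨
    (Nonempty (Soc P ≃* Matrix.ProjectiveSpecialLinearGroup (Fin 2) (ZMod 11)) ∧ p ≠ 2 ∧ p ≠ 11 ∧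
      (Nat.card F = p ∨ (Nat.card F = p ^ 2 ∧ (p % 12 = 5 ∨ p % 12 = 7)))) ∨
    (IsU 5 2 (Soc P) ∧ p ≠ 2 ∧ Nat.card F = p) :=
  cross hC hA hQ hK hL (not_m11 p hC hA hQ)

end Cfsg.Agent.H912.Sp10
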