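import Cfsg.Agent.H919.AltTwo
import Cfsg.Agent.H915.LD

/-!
# Families `W i j = "e_i - e_j"` in degree ten, characteristic two (helper912)

`fixQ_fam` : a core of degree ten in characteristic two permuting a family `W : Fin m → Fin m → V`, `m = 11, 12`,
`W i j + W j k = W i k`, with `f (W i j) (W i k)` constant, fixes a quadratic form.
-/

set_option autoImplicit false
set_option linter.unusedSectionVars false

namespace Cfsg.Agent.H912.Sp10

open Cfsg Cfsg.Geo Matrix Cfsg.Agent.H919.Q2
open Cfsg.Agent.H915.LD (Core Soc toSoc FixA FixQ)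

universe u

variable {ι : Type} [Fintype ι] [DecidableEq ι] {F : Type u} [Field F] {f : (ι → F) → (ι → F) → F}
  {P : Subgroup (GL ι F)}

section alg

variable (h2 : (2 : F) = 0)

include h2 in
theorem dbl (v : ι → F) : v + v = 0 := by
  rw [← two_smul F, h2, zero_smul]

include h2 in
theorem dblF (a : F) : a + a = 0 := by
  rw [← two_mul, h2, zero_mul]

end alg

/-- the core is irreducible and not trivial -/
theorem fixed_zero (hC : Core P) (hn : Fintype.card ι = 10) {v : ι → F}
    (hv : ∀ g ∈ P, (g : Matrix ι ι F) *ᵥ v = v) : v = 0 := by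
  by_contra h0
  have h1 := hC.absIrred.1 (Submodule.span F {v}) (by
    rintro _ ⟨g, hg, rfl⟩
    rintro _ ⟨w, hw, rfl⟩
    obtain ⟨c, rfl⟩ := Submodule.mem_span_singleton.1 hw
    rw [Matrix.toLin'_apply, Matrix.mulVec_smul, hv g hg]
    exact hw)
  rcases h1 with h1 | h1
  · rw [Submodule.span_singleton_eq_bot] at h1
    exact h0 h1
  · have h3 := finrank_span_singleton (K := F) h0
    rw [h1, finrank_top, Module.finrank_fintype_fun_eq_card, hn] at h3
    omega

section fam

variable {m : ℕ} {W : Fin m → Fin m → ι → F}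

theorem W_self (add : ∀ i j k, W i j + W j k = W i k) (i : Fin m) : W i i = 0 := by
  have := add i i i
  rwa [add_eq_left] at this

theorem W_symm (h2 : (2 : F) = 0) (add : ∀ i j k, W i j + W j k = W i k) (i j : Fin m) : W j i = W i j := by
  have h1 := add i j i
  rw [W_self add] at h1
  have h3 := dbl h2 (W i j)
  exact add_left_cancel (h1.trans h3.symm)

/-- the span -/
theorem W_span (hC : Core P) (add : ∀ i j k, W i j + W j k = W i k) {i0 j0 : Fin m} (ne : W i0 j0 ≠ 0)
    (act : ∀ g ∈ P, ∃ τ : Equiv.Perm (Fin m), ∀ i j, (g : Matrix ι ι F) *ᵥ W i j = W (τ i) (τ j)) (l : Fin m) :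
    Submodule.span F (Set.range fun i => W i l) = ⊤ := by
  have h1 := hC.absIrred.1 (Submodule.span F (Set.range fun i => W i l)) (by
    rintro _ ⟨g, hg, rfl⟩
    rintro _ ⟨w, hw, rfl⟩
    rw [Matrix.toLin'_apply]
    obtain ⟨τ, hτ⟩ := act g hg
    induction hw using Submodule.span_induction with
    | mem x hx =>
      obtain ⟨i, rfl⟩ := hx
      dsimp only
      rw [hτ, ← add (τ i) l (τ l)]
      have h3 : W l (τ l) = - W (τ l) l := by
        rw [eq_neg_iff_add_eq_zero, add, W_self add]
      rw [h3, ← sub_eq_add_neg]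
      exact Submodule.sub_mem _ (Submodule.subset_span ⟨_, rfl⟩) (Submodule.subset_span ⟨_, rfl⟩)
    | zero => rw [Matrix.mulVec_zero]; exact Submodule.zero_mem _
    | add x y _ _ hx hy => rw [Matrix.mulVec_add]; exact Submodule.add_mem _ hx hy
    | smul c x _ hx => rw [Matrix.mulVec_smul]; exact Submodule.smul_mem _ _ hx)
  refine h1.resolve_left fun h0 => ?_
  apply ne
  have h3 : ∀ i, W i l = 0 := by
    intro i
    have : W i l ∈ Submodule.span F (Set.range fun i => W i l) := Submodule.subset_span ⟨i, rfl⟩
    rw [h0] at this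
    exact this
  have h4 : W l j0 = - W j0 l := by
    rw [eq_neg_iff_add_eq_zero, add, W_self add]
  rw [← add i0 l j0, h3, h4, h3, neg_zero, add_zero]

/-- invariance of a quadratic form with constant value on the family -/
theorem inv_of_const (hC : Core P) (hP : InvB P f) (add : ∀ i j k, W i j + W j k = W i k) {i0 j0 : Fin m}
    (ne : W i0 j0 ≠ 0) (act : ∀ g ∈ P, ∃ τ : Equiv.Perm (Fin m), ∀ i j, (g : Matrix ι ι F) *ᵥ W i j = W (τ i) (τ j))
    {Q : (ι → F) → F} (hQ : QP f Q) {φ : F} (hQW : ∀ i j, i ≠ j → Q (W i j) = φ) : Inv P Q := by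
  intro g hg v
  have hQ' : QP f fun v => Q ((g : Matrix ι ι F) *ᵥ v) :=
    ⟨fun c v => by rw [Matrix.mulVec_smul, hQ.smul], fun v w => by rw [Matrix.mulVec_add, hQ.add, hP g hg]⟩
  have h1 := qp_ext_span (S := Set.range fun i => W i j0) hQ' hQ (W_span hC add ne act j0) (by
    rintro _ ⟨i, rfl⟩
    obtain ⟨τ, hτ⟩ := act g hg
    dsimp only
    rw [hτ]
    by_cases hij : i = j0
    · rw [hij, W_self add, W_self add]
    · rw [hQW _ _ hij, hQW _ _ fun h => hij (τ.injective h)])
  exact congrFun h1 v

end fam

/-- **Eleven or twelve points.** -/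
theorem fixQ_fam (h2 : (2 : F) = 0) (hC : Core P) (hf : IsSymplecticForm f) (hfix : FixesForm (matrixSet P) f)
    (hn : Fintype.card ι = 10) {m : ℕ} (hm : m = 11 ∨ m = 12) {W : Fin m → Fin m → ι → F}
    (add : ∀ i j k, W i j + W j k = W i k) {i0 j0 : Fin m} (ne : W i0 j0 ≠ 0)
    (act : ∀ g ∈ P, ∃ τ : Equiv.Perm (Fin m), ∀ i j, (g : Matrix ι ι F) *ᵥ W i j = W (τ i) (τ j)) {φ : F}
    (hφ : ∀ i j k, i ≠ j → i ≠ k → j ≠ k → f (W i j) (W i k) = φ) : FixQ P := by
  have hP : InvB P f := fun g hg v w => hfix _ ⟨g, hg, rfl⟩ v w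
  have key : ∀ {Q : (ι → F) → F}, QP f Q → (∀ i j, i ≠ j → Q (W i j) = φ) → FixQ P := fun hQ h =>
    fixQ_of hf hQ (inv_of_const hC hP add ne act hQ h)
  have sym := W_symm h2 add
  have h3 : φ + φ + φ = φ := by rw [dblF h2, zero_add]
  rcases hm with rfl | rfl
  · -- eleven points
    have hsp := W_span hC add ne act (Fin.last 10)
    have hsp' : ⊤ ≤ Submodule.span F (Set.range fun i : Fin 10 => W i.castSucc (Fin.last 10)) := by
      rw [← hsp, Submodule.span_le]
      rintro _ ⟨i, rfl⟩
      dsimp only
      induction i using Fin.lastCases with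
      | last => rw [W_self add]; exact Submodule.zero_mem _
      | cast i => exact Submodule.subset_span ⟨i, rfl⟩
    have hli : LinearIndependent F (fun i : Fin 10 => W i.castSucc (Fin.last 10)) :=
      linearIndependent_of_top_le_span_of_card_eq_finrank hsp' (by
        rw [Module.finrank_fintype_fun_eq_card, hn, Fintype.card_fin])
    let b : Module.Basis (Fin 10) F (ι → F) := Module.Basis.mk hli hsp'
    have hb : ∀ i, b i = W i.castSucc (Fin.last 10) := fun i => by simp [b]
    obtain ⟨Q, hQ, hQb⟩ := exists_qp_basis h2 hf b (fun _ => φ)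
    have hlast : ∀ i : Fin 11, i ≠ Fin.last 10 → Q (W i (Fin.last 10)) = φ := by
      intro i hi
      induction i using Fin.lastCases with
      | last => exact absurd rfl hi
      | cast i => rw [← hb]; exact hQb i
    refine key hQ fun i j hij => ?_
    by_cases hi : i = Fin.last 10
    · rw [hi, sym, hlast j (fun h => hij (hi.trans h.symm))]
    · by_cases hj : j = Fin.last 10
      · rw [hj, hlast i hi]
      · rw [← add i (Fin.last 10) j, hQ.add, hlast i hi, sym j (Fin.last 10), hlast j hj, sym (Fin.last 10) i,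
          sym (Fin.last 10) j, hφ _ _ _ (Ne.symm hi) (Ne.symm hj) hij, h3]
  · -- twelve points
    have hsum : ∀ l : Fin 12, ∑ i, W i l = 0 := by
      have h12 : ∀ x : ι → F, (12 : ℕ) • x = 0 := by
        intro x
        rw [show 12 = 6 * 2 from rfl, mul_smul, two_nsmul, dbl h2, smul_zero]
      have hc : ∀ l l', ∑ i, W i l = ∑ i, W i l' := by
        intro l l'
        have h4 : ∑ i, W i l' = ∑ i, W i l + ∑ _i : Fin 12, W l l' := by
          rw [← Finset.sum_add_distrib]
          exact Finset.sum_congr rfl fun i _ => (add i l l').symm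
        rw [Finset.sum_const, Finset.card_univ, Fintype.card_fin] at h4
        rw [h4, h12, add_zero]
      intro l
      refine fixed_zero hC hn fun g hg => ?_
      obtain ⟨τ, hτ⟩ := act g hg
      rw [Matrix.mulVec_sum]
      have h4 : ∑ i, (g : Matrix ι ι F) *ᵥ W i l = ∑ i, W (τ i) (τ l) := Finset.sum_congr rfl fun i _ => hτ i l
      rw [h4, Equiv.sum_comp τ (fun i => W i (τ l))]
      exact hc _ _
    set L : Fin 12 := Fin.last 11 with hL
    set M : Fin 12 := (Fin.last 10).castSucc with hM
    have hML : M ≠ L := by decide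
    have hsM : W M L = ∑ i : Fin 10, W i.castSucc.castSucc L := by
      have h4 := hsum L
      rw [Fin.sum_univ_castSucc, Fin.sum_univ_castSucc, W_self add, add_zero] at h4
      have h5 := dbl h2 (W M L)
      exact (add_right_cancel (h4.trans h5.symm)).symm
    have hsp := W_span hC add ne act L
    have hsp' : ⊤ ≤ Submodule.span F (Set.range fun i : Fin 10 => W i.castSucc.castSucc L) := by
      rw [← hsp, Submodule.span_le]
      rintro _ ⟨i, rfl⟩
      dsimp only
      induction i using Fin.lastCases with
      | last => rw [W_self add]; exact Submodule.zero_mem _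
      | cast i =>
        induction i using Fin.lastCases with
        | last =>
          rw [← hM, hsM]
          exact Submodule.sum_mem _ fun i _ => Submodule.subset_span ⟨i, rfl⟩
        | cast i => exact Submodule.subset_span ⟨i, rfl⟩
    have hli : LinearIndependent F (fun i : Fin 10 => W i.castSucc.castSucc L) :=
      linearIndependent_of_top_le_span_of_card_eq_finrank hsp' (by
        rw [Module.finrank_fintype_fun_eq_card, hn, Fintype.card_fin])
    let b : Module.Basis (Fin 10) F (ι → F) := Module.Basis.mk hli hsp'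
    have hb : ∀ i, b i = W i.castSucc.castSucc L := fun i => by simp [b]
    obtain ⟨Q, hQ, hQb⟩ := exists_qp_basis h2 hf b (fun _ => φ)
    have hff : ∀ i j : Fin 12, i ≠ L → j ≠ L → i ≠ j → f (W i L) (W j L) = φ := by
      intro i j hi hj hij
      rw [sym L i, sym L j, hφ _ _ _ (Ne.symm hi) (Ne.symm hj) hij]
    have hQM : Q (W M L) = φ := by
      have hne : ∀ i : Fin 10, (i.castSucc.castSucc : Fin 12) ≠ L := by
        intro i h
        have h5 := congrArg Fin.val h
        rw [Fin.val_castSucc, Fin.val_castSucc, hL, Fin.val_last] at h5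
        have := i.2
        omega
      have h4 := qp_sum_const hf hQ (fun i : Fin 10 => W i.castSucc.castSucc L) (c := φ) (d := φ)
        (fun i j hij => hff _ _ (hne i) (hne j) fun h =>
          hij (Fin.castSucc_injective _ (Fin.castSucc_injective _ h))) (fun i => by rw [← hb]; exact hQb i)
        Finset.univ
      rw [hsM, h4, Finset.card_univ, Fintype.card_fin]
      have h5 : ((Nat.choose 10 2 : ℕ) : F) = 45 := by
        rw [show Nat.choose 10 2 = 45 from rfl]
        norm_num
      rw [h5]
      push_cast
      linear_combination 27 * φ * h2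
    have hlast : ∀ i : Fin 12, i ≠ L → Q (W i L) = φ := by
      intro i hi
      induction i using Fin.lastCases with
      | last => exact absurd rfl hi
      | cast i =>
        induction i using Fin.lastCases with
        | last => exact hQM
        | cast i => rw [← hb]; exact hQb i
    refine key hQ fun i j hij => ?_
    by_cases hi : i = L
    · rw [hi, sym, hlast j (fun h => hij (hi.trans h.symm))]
    · by_cases hj : j = L
      · rw [hj, hlast i hi]
      · rw [← add i L j, hQ.add, hlast i hi, sym j L, hlast j hj, hff i j hi hj hij, h3]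

end Cfsg.Agent.H912.Sp10
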