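import Cfsg.Agent.H871.Par3
import Cfsg.Agent.H908.TenDim

/-!
# Self-dual irreducible representations over an algebraically closed field (helper912)

`SR K V G` : a representation of `G` on `V` with an invariant non-degenerate reflexive form, irreducible.

* `SR.eig_neg` : the eigenspaces of `x` for `ζ` and `ζ⁻¹` have the same dimension;
* `SR.scott` : Scott's lemma;
* `SR.dim7` : elements of order seven conjugate to their squares, in dimension ten;
* `exists_sr` : the representation of a core fixing an alternating form.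
-/

set_option autoImplicit false
set_option linter.unusedSectionVars false

namespace Cfsg.Agent.H912.Sp10

open Cfsg Cfsg.Geo Module
open Matrix hiding mul_apply'
open Cfsg.Agent.H637.JW Cfsg.Agent.H908.Ten

universe u v w

/-- A self-dual irreducible representation. -/
structure SR (K : Type u) [Field K] (V : Type v) [AddCommGroup V] [Module K V] (G : Type w) [Group G] where
  σ : G →* Module.End K V
  B : LinearMap.BilinForm K V
  nd : ∀ u, (∀ v, B u v = 0) → u = 0
  refl : ∀ u v, B u v = 0 → B v u = 0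
  inv : ∀ g u v, B (σ g u) (σ g v) = B u v
  irr : ∀ W : Submodule K V, (∀ g, ∀ v ∈ W, σ g v ∈ W) → ∀ w ∈ W, w ≠ 0 → W = ⊤

namespace SR

variable {K : Type u} [Field K] {V : Type v} [AddCommGroup V] [Module K V] {G : Type w} [Group G] (h : SR K V G)

/-- Pull back along a surjective homomorphism. -/
def comap {G' : Type*} [Group G'] (f : G' →* G) (hf : Function.Surjective f) : SR K V G' where
  σ := h.σ.comp f
  B := h.B
  nd := h.nd
  refl := h.refl
  inv := fun g => h.inv (f g)
  irr := fun W hW => h.irr W fun g v hv => by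
    obtain ⟨g', rfl⟩ := hf g
    exact hW g' v hv

@[simp] theorem comap_σ {G' : Type*} [Group G'] (f : G' →* G) (hf : Function.Surjective f) (x : G') :
    (h.comap f hf).σ x = h.σ (f x) := rfl

theorem nd' (v : V) (hv : ∀ u, h.B u v = 0) : v = 0 := h.nd v fun u => h.refl _ _ (hv u)

/-- no fixed vectors -/
theorem eq_zero_of_fixed (h1 : finrank K V ≠ 1) {v : V} (hv : ∀ g, h.σ g v = v) : v = 0 := by
  by_contra h0
  have h2 := h.irr (Submodule.span K {v}) (by
    intro g w hw
    obtain ⟨c, rfl⟩ := Submodule.mem_span_singleton.1 hw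
    rw [map_smul, hv g]
    exact hw) v (Submodule.mem_span_singleton_self v) h0
  apply h1
  have h3 := finrank_span_singleton (K := K) h0
  rwa [h2, finrank_top] at h3

/-- a vector orthogonal to `(g - 1) V` is fixed by `g` -/
theorem fixed_of_orth {g : G} {v : V} (hv : ∀ u, h.B (h.σ g u - u) v = 0) : h.σ g v = v := by
  have h1 : h.σ g⁻¹ v = v := by
    rw [← sub_eq_zero]
    apply h.nd'
    intro u
    have h2 := hv u
    rw [map_sub, LinearMap.sub_apply] at h2
    have h3 := h.inv g⁻¹ (h.σ g u) v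
    rw [← mul_apply', inv_mul_cancel, map_one, Module.End.one_apply] at h3
    rw [map_sub, h3]
    exact h2
  have h2 := congrArg (h.σ g) h1
  rw [← mul_apply', mul_inv_cancel, map_one, Module.End.one_apply] at h2
  exact h2.symm

variable [FiniteDimensional K V]

theorem nondeg : h.B.Nondegenerate := ⟨h.nd, fun v hv => h.nd' v hv⟩

theorem finrank_orth (U : Submodule K V) :
    finrank K (h.B.orthogonal U) + finrank K U = finrank K V := by
  have h1 := LinearMap.BilinForm.finrank_orthogonal h.nondeg U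
  have h2 := Submodule.finrank_le U
  omega

/-- the range of `g - 1` -/
noncomputable def R (g : G) : Submodule K V := LinearMap.range (h.σ g - 1)

/-- the dimension of the fixed space -/
noncomputable def d (g : G) : ℕ := finrank K (Fix h.σ g)

theorem finrank_R (g : G) : finrank K (h.R g) + h.d g = finrank K V := by
  have h1 := LinearMap.finrank_range_add_finrank_ker (h.σ g - 1)
  have h2 : Fix h.σ g = LinearMap.ker (h.σ g - 1) := by
    ext v
    rw [mem_Fix, LinearMap.mem_ker, LinearMap.sub_apply, Module.End.one_apply, sub_eq_zero]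
  rw [d, h2]
  exact h1

theorem d_conj {g g' : G} (hc : IsConj g g') : h.d g = h.d g' := finrank_Fix_of_isConj hc

theorem d_le (g : G) : h.d g ≤ finrank K V := Submodule.finrank_le _

/-- **Scott's lemma.** -/
theorem scott {x y : G} (hxy : ∀ v, h.σ x v = v → h.σ y v = v → v = 0) :
    h.d x + h.d y + h.d (x * y) ≤ finrank K V := by
  have hx := h.finrank_R x
  have hy := h.finrank_R y
  have hz := h.finrank_R (x * y)
  have htop : h.R x ⊔ h.R y = ⊤ := by
    have h1 := h.finrank_orth (h.R x ⊔ h.R y)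
    have h2 : h.B.orthogonal (h.R x ⊔ h.R y) = ⊥ := by
      rw [eq_bot_iff]
      intro v hv
      rw [LinearMap.BilinForm.mem_orthogonal_iff] at hv
      rw [Submodule.mem_bot]
      refine hxy v (h.fixed_of_orth fun u => ?_) (h.fixed_of_orth fun u => ?_)
      · exact hv _ (Submodule.mem_sup_left ⟨u, rfl⟩)
      · exact hv _ (Submodule.mem_sup_right ⟨u, rfl⟩)
    rw [h2, finrank_bot, zero_add] at h1
    exact Submodule.eq_top_of_finrank_eq h1
  let δ : (h.R x × h.R y) × h.R (x * y) →ₗ[K] V :=
    ((h.R x).subtype.coprod (h.R y).subtype).coprod (h.R (x * y)).subtype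
  have hδ : LinearMap.range δ = ⊤ := by
    rw [eq_top_iff, ← htop]
    intro v hv
    obtain ⟨a, ha, b, hb, rfl⟩ := Submodule.mem_sup.1 hv
    exact ⟨((⟨a, ha⟩, ⟨b, hb⟩), 0), by simp [δ]⟩
  let β : V →ₗ[K] LinearMap.ker δ :=
    { toFun := fun v => ⟨((⟨h.σ x (h.σ y v) - h.σ y v, ⟨h.σ y v, rfl⟩⟩, ⟨h.σ y v - v, ⟨v, rfl⟩⟩),
        ⟨-(h.σ (x * y) v - v), neg_mem ⟨v, rfl⟩⟩), by
          rw [LinearMap.mem_ker]
          simp only [δ, LinearMap.coprod_apply, Submodule.subtype_apply, mul_apply']
          abel⟩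
      map_add' := fun u v => by
        apply Subtype.ext
        refine Prod.ext (Prod.ext (Subtype.ext ?_) (Subtype.ext ?_)) (Subtype.ext ?_) <;>
          simp only [map_add, Prod.fst_add, Prod.snd_add, Submodule.coe_add] <;> abel
      map_smul' := fun c v => by
        apply Subtype.ext
        refine Prod.ext (Prod.ext (Subtype.ext ?_) (Subtype.ext ?_)) (Subtype.ext ?_) <;>
          simp only [map_smul, Prod.smul_fst, Prod.smul_snd, Submodule.coe_smul, RingHom.id_apply, smul_sub, smul_neg] }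
  have hβ : Function.Injective β := by
    refine (injective_iff_map_eq_zero β).2 fun v hv => ?_
    have h1 := congrArg Subtype.val hv
    have h2 : h.σ y v - v = 0 := congrArg (fun z => ((z.1.2 : h.R y) : V)) h1
    have h3 : h.σ x (h.σ y v) - h.σ y v = 0 := congrArg (fun z => ((z.1.1 : h.R x) : V)) h1
    rw [sub_eq_zero] at h2
    rw [h2, sub_eq_zero] at h3
    exact hxy v h3 h2
  have h1 := LinearMap.finrank_le_finrank_of_injective hβ
  have h2 := LinearMap.finrank_range_add_finrank_ker δ
  rw [hδ, finrank_top, Module.finrank_prod, Module.finrank_prod] at h2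
  have h3 := h.d_le (x * y)
  omega

/-- unipotent involutions in characteristic two -/
theorem d_two (h2 : (2 : K) = 0) {x : G} (hx : x * x = 1) : finrank K V ≤ 2 * h.d x := by
  have h1 := h.finrank_R x
  have h3 : h.R x ≤ Fix h.σ x := by
    rintro _ ⟨v, rfl⟩
    rw [mem_Fix, LinearMap.sub_apply, Module.End.one_apply, map_sub, ← mul_apply', hx, map_one, Module.End.one_apply]
    have h4 : (2 : K) • (v - h.σ x v) = 0 := by rw [h2, zero_smul]
    rw [two_smul] at h4
    calc v - h.σ x v = (v - h.σ x v + (v - h.σ x v)) - (v - h.σ x v) := by abel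
      _ = h.σ x v - v := by rw [h4]; abel
  have h4 := Submodule.finrank_mono h3
  have h5 : h.d x = finrank K (Fix h.σ x) := rfl
  omega

section weights

variable [IsAlgClosed K] {N : ℕ} [NeZero N] (hN : (N : K) ≠ 0) {ζ : K} (hζ : IsPrimitiveRoot ζ N) {x : G} (hx : x ^ N = 1)

include hζ in
omit [FiniteDimensional K V] [IsAlgClosed K] in
theorem B_eq_zero {c d : ZMod N} (hcd : c + d ≠ 0) {u v : V} (hu : h.σ x u = ζ ^ c.val • u) (hv : h.σ x v = ζ ^ d.val • v) :
    h.B u v = 0 := by
  have h3 := h.inv x u v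
  rw [hu, hv, map_smul, map_smul, LinearMap.smul_apply, smul_eq_mul, smul_eq_mul, ← mul_assoc, mul_comm (ζ ^ d.val),
    ← pow_val_add hζ.pow_eq_one] at h3
  have h4 : ζ ^ (c + d).val ≠ 1 := by
    intro h5
    apply hcd
    have h6 := hζ.pow_inj (ZMod.val_lt (c + d)) (NeZero.pos N) (by rw [h5, pow_zero])
    exact (ZMod.val_eq_zero _).1 h6
  have h5 : (ζ ^ (c + d).val - 1) * h.B u v = 0 := by linear_combination h3
  exact (mul_eq_zero.1 h5).resolve_left (sub_ne_zero.2 h4)

include hN hζ hx

theorem iSup_eig : (⨆ i : ZMod N, (h.σ x).eigenspace (ζ ^ i.val)) = ⊤ := by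
  have htop := iSup_W (κ := Unit) hN hζ (f := fun _ => h.σ x) (fun _ _ => rfl) (fun _ => by rw [← map_pow, hx, map_one])
  rw [eq_top_iff, ← htop]
  refine iSup_le fun c => ?_
  refine le_trans ?_ (le_iSup _ (c ()))
  intro v hv
  rw [Module.End.mem_eigenspace_iff]
  exact (mem_W.1 hv) ()

theorem eig_neg_le (i : ZMod N) :
    finrank K ((h.σ x).eigenspace (ζ ^ i.val)) ≤ finrank K ((h.σ x).eigenspace (ζ ^ (-i).val)) := by
  let f : (h.σ x).eigenspace (ζ ^ i.val) →ₗ[K] Module.Dual K ((h.σ x).eigenspace (ζ ^ (-i).val)) :=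
    { toFun := fun u => (h.B u.1).comp (Submodule.subtype _)
      map_add' := fun u v => by
        ext w
        simp
      map_smul' := fun a v => by
        ext w
        simp }
  have hf : Function.Injective f := by
    rw [← LinearMap.ker_eq_bot, LinearMap.ker_eq_bot']
    intro u hu
    apply Subtype.ext
    apply h.nd
    intro w
    have hw : w ∈ (⨆ i : ZMod N, (h.σ x).eigenspace (ζ ^ i.val)) := by rw [h.iSup_eig hN hζ hx]; trivial
    induction hw using Submodule.iSup_induction' with
    | mem d w hw =>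
      by_cases hd : d = -i
      · subst hd
        exact LinearMap.congr_fun hu ⟨w, hw⟩
      · refine h.B_eq_zero (c := i) (d := d) hζ ?_ (Module.End.mem_eigenspace_iff.1 u.2) (Module.End.mem_eigenspace_iff.1 hw)
        intro h0
        exact hd (eq_neg_of_add_eq_zero_right h0)
    | zero => rw [map_zero]
    | add a b _ _ ha hb => rw [map_add, ha, hb, add_zero]
  have h1 := LinearMap.finrank_le_finrank_of_injective hf
  rwa [Subspace.dual_finrank_eq] at h1

/-- **Self-duality of the eigenvalues.** -/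
theorem eig_neg (i : ZMod N) :
    finrank K ((h.σ x).eigenspace (ζ ^ (-i).val)) = finrank K ((h.σ x).eigenspace (ζ ^ i.val)) := by
  refine le_antisymm ?_ (h.eig_neg_le hN hζ hx i)
  have := h.eig_neg_le hN hζ hx (-i)
  rwa [neg_neg] at this

theorem sum_eig : ∑ i : ZMod N, finrank K ((h.σ x).eigenspace (ζ ^ i.val)) = finrank K V := by
  have h1 := sum_inf_eigen hN hζ (A := h.σ x) (by rw [← map_pow, hx, map_one]) (U := ⊤) (fun v _ => trivial)
  rw [finrank_top] at h1
  refine Eq.trans (Finset.sum_congr rfl fun i _ => ?_) h1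
  have h2 : (⊤ ⊓ (h.σ x).eigenspace (ζ ^ i.val) : Submodule K V) = (h.σ x).eigenspace (ζ ^ i.val) := top_inf_eq _
  rw [h2]

end weights

theorem eig_zero {ζ : K} (N : ℕ) [NeZero N] (x : G) :
    finrank K ((h.σ x).eigenspace (ζ ^ (0 : ZMod N).val)) = h.d x := by
  rw [ZMod.val_zero, pow_zero]
  rfl

theorem σ_eq_one {x : G} (hx : h.d x = finrank K V) : h.σ x = 1 := by
  have h1 : Fix h.σ x = ⊤ := Submodule.eq_top_of_finrank_eq hx
  refine LinearMap.ext fun v => ?_
  have h2 : v ∈ Fix h.σ x := by rw [h1]; trivial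
  rw [Module.End.one_apply]
  exact mem_Fix.1 h2

/-- **Elements of order seven.** -/
theorem dim7 [IsAlgClosed K] (hV : finrank K V = 10) (h7 : (7 : K) ≠ 0) {x d : G} (hx : x ^ 7 = 1) (hx1 : h.σ x ≠ 1)
    (hd : d⁻¹ * x * d = x ^ 2) {ζ : K} (hζ : IsPrimitiveRoot ζ 7) :
    h.d x = 4 ∧ finrank K ((h.σ x).eigenspace ζ) = 1 ∧ finrank K ((h.σ x).eigenspace (ζ ^ 6)) = 1 := by
  have h7' : ((7 : ℕ) : K) ≠ 0 := by exact_mod_cast h7
  have hsum := h.sum_eig h7' hζ hx
  rw [hV] at hsum
  have hneg := h.eig_neg h7' hζ hx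
  have hconj := fun i : ZMod 7 => eig_conj (σ := h.σ) hζ hd i
  have h0 := h.eig_zero (ζ := ζ) 7 x
  set D : ZMod 7 → ℕ := fun i => finrank K ((h.σ x).eigenspace (ζ ^ i.val)) with hD
  have e1 : D 1 ≤ D 2 := hconj 1
  have e2 : D 2 ≤ D 4 := hconj 2
  have e3 : D 4 ≤ D 1 := hconj 4
  have e4 : D 6 = D 1 := hneg 1
  have e5 : D 5 = D 2 := hneg 2
  have e6 : D 3 = D 4 := hneg 4
  have e0 : D 0 = h.d x := h0
  have hs : D 0 + D 1 + D 2 + D 3 + D 4 + D 5 + D 6 = 10 := by
    rw [← hsum]
    exact (Fin.sum_univ_seven (fun i : Fin 7 => D i)).symm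
  have hne : h.d x ≠ 10 := by
    intro h10
    exact hx1 (h.σ_eq_one (by rw [h10, hV]))
  have f1 : finrank K ((h.σ x).eigenspace ζ) = D 1 := by
    change _ = finrank K ((h.σ x).eigenspace (ζ ^ 1))
    rw [pow_one]
  have f6 : finrank K ((h.σ x).eigenspace (ζ ^ 6)) = D 6 := rfl
  rw [f1, f6]
  omega

end SR

end Cfsg.Agent.H912.Sp10
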